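import Mathlib

/-!
Permutations of `Fin q × ZMod p` respecting the blocks: the subgroup generated by the elements of
`p`-power order.
-/

set_option autoImplicit false

namespace CfsgLib.FusionAlt

open Equiv Equiv.Perm

variable {q p : ℕ} [Fact p.Prime]

/-- Blockwise translation. -/
def sh (b : Fin q → ZMod p) : Perm (Fin q × ZMod p) := prodCongrRight fun i => Equiv.addRight (b i)

/-- Blockwise multiplication. -/
def tor (t : Fin q → (ZMod p)ˣ) : Perm (Fin q × ZMod p) := prodCongrRight fun i => Units.mulLeft (t i)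

/-- Permutation of the blocks. -/
def blk (π : Perm (Fin q)) : Perm (Fin q × ZMod p) := π.prodCongr (Equiv.refl (ZMod p))

@[simp] theorem sh_apply (b : Fin q → ZMod p) (i : Fin q) (x : ZMod p) : sh b (i, x) = (i, x + b i) := rfl

@[simp] theorem tor_apply (t : Fin q → (ZMod p)ˣ) (i : Fin q) (x : ZMod p) :
    tor t (i, x) = (i, (t i : ZMod p) * x) := rfl

@[simp] theorem blk_apply (π : Perm (Fin q)) (i : Fin q) (x : ZMod p) :
    (blk π : Perm (Fin q × ZMod p)) (i, x) = (π i, x) := rfl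

theorem sh_add (b c : Fin q → ZMod p) : sh (b + c) = sh b * sh c := by
  refine Perm.ext fun ⟨i, x⟩ => ?_
  simp only [Perm.mul_apply, sh_apply, Pi.add_apply]
  rw [add_comm (b i) (c i), add_assoc]

theorem sh_zero : sh (0 : Fin q → ZMod p) = 1 := Perm.ext fun ⟨i, x⟩ => by simp

theorem sh_pow (b : Fin q → ZMod p) (k : ℕ) : sh b ^ k = sh (k • b) := by
  induction k with
  | zero => rw [pow_zero, zero_smul, sh_zero]
  | succ k ih => rw [pow_succ, ih, ← sh_add, succ_nsmul]

theorem sh_pow_p (b : Fin q → ZMod p) : sh b ^ p = 1 := by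
  rw [sh_pow, show p • b = 0 from funext fun i => by simp, sh_zero]

theorem sh_inv (b : Fin q → ZMod p) : (sh b)⁻¹ = sh (-b) :=
  inv_eq_of_mul_eq_one_left (by rw [← sh_add, neg_add_cancel, sh_zero])

omit [Fact p.Prime] in
theorem blk_mul (π σ : Perm (Fin q)) : (blk (π * σ) : Perm (Fin q × ZMod p)) = blk π * blk σ :=
  Perm.ext fun ⟨i, x⟩ => rfl

omit [Fact p.Prime] in
theorem blk_one : (blk 1 : Perm (Fin q × ZMod p)) = 1 := Perm.ext fun ⟨i, x⟩ => rfl

theorem tor_mul (t u : Fin q → (ZMod p)ˣ) : tor (t * u) = tor t * tor u :=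
  Perm.ext fun ⟨i, x⟩ => by simp [mul_assoc]

theorem tor_one : tor (1 : Fin q → (ZMod p)ˣ) = 1 := Perm.ext fun ⟨i, x⟩ => by simp

/-- `σ` is affine on each block. -/
def IsMon (σ : Perm (Fin q × ZMod p)) : Prop :=
  ∃ (π : Perm (Fin q)) (t : Fin q → (ZMod p)ˣ) (b : Fin q → ZMod p),
    ∀ i x, σ (i, x) = (π i, (t i : ZMod p) * x + b i)

theorem isMon_sh (b : Fin q → ZMod p) : IsMon (sh b) := ⟨1, 1, b, fun i x => by simp⟩

theorem isMon_tor (t : Fin q → (ZMod p)ˣ) : IsMon (tor t) := ⟨1, t, 0, fun i x => by simp⟩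

theorem isMon_blk (π : Perm (Fin q)) : IsMon (blk π : Perm (Fin q × ZMod p)) :=
  ⟨π, 1, 0, fun i x => by simp⟩

theorem IsMon.mul {σ τ : Perm (Fin q × ZMod p)} (hσ : IsMon σ) (hτ : IsMon τ) : IsMon (σ * τ) := by
  obtain ⟨π, t, b, h⟩ := hσ
  obtain ⟨π', t', b', h'⟩ := hτ
  refine ⟨π * π', fun i => t (π' i) * t' i, fun i => (t (π' i) : ZMod p) * b' i + b (π' i), fun i x => ?_⟩
  rw [Perm.mul_apply, h', h]
  simp only [Perm.mul_apply, Units.val_mul, Prod.mk.injEq, true_and]
  ring

theorem IsMon.inv {σ : Perm (Fin q × ZMod p)} (hσ : IsMon σ) : IsMon σ⁻¹ := by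
  obtain ⟨π, t, b, h⟩ := hσ
  refine ⟨π⁻¹, fun i => (t (π⁻¹ i))⁻¹, fun i => -(((t (π⁻¹ i))⁻¹ : (ZMod p)ˣ) : ZMod p) * b (π⁻¹ i),
    fun i x => ?_⟩
  rw [Perm.inv_eq_iff_eq, h]
  refine Prod.ext (Equiv.apply_symm_apply π i).symm ?_
  have h1 := Units.mul_inv (t (π⁻¹ i))
  simp only
  linear_combination (b (π⁻¹ i) - x) * h1

theorem IsMon.conj_sh {σ : Perm (Fin q × ZMod p)} (hσ : IsMon σ) (c : Fin q → ZMod p) :
    ∃ c', σ * sh c * σ⁻¹ = sh c' := by
  obtain ⟨π, t, b, h⟩ := hσ
  refine ⟨fun j => (t (π⁻¹ j) : ZMod p) * c (π⁻¹ j), ?_⟩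
  rw [mul_inv_eq_iff_eq_mul]
  refine Perm.ext fun ⟨i, x⟩ => ?_
  simp only [Perm.mul_apply, sh_apply, h, Prod.mk.injEq, true_and, Perm.coe_inv, Equiv.symm_apply_apply]
  ring

/-- The subgroup generated by the affine elements of `p`-power order. -/
def monP (q p : ℕ) [Fact p.Prime] : Subgroup (Perm (Fin q × ZMod p)) :=
  Subgroup.closure {σ | IsMon σ ∧ ∃ k : ℕ, σ ^ p ^ k = 1}

theorem monP_conj {g σ : Perm (Fin q × ZMod p)} (hg : IsMon g) (hσ : σ ∈ monP q p) :
    g * σ * g⁻¹ ∈ monP q p := by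
  unfold monP at hσ ⊢
  induction hσ using Subgroup.closure_induction with
  | mem x hx =>
    obtain ⟨hx, k, hk⟩ := hx
    refine Subgroup.subset_closure ⟨(hg.mul hx).mul hg.inv, k, ?_⟩
    rw [← MulAut.conj_apply, ← map_pow, hk, map_one]
  | one => simp
  | mul x y _ _ hx hy =>
    have := Subgroup.mul_mem _ hx hy
    rwa [show g * x * g⁻¹ * (g * y * g⁻¹) = g * (x * y) * g⁻¹ by group] at this
  | inv x _ hx =>
    have := Subgroup.inv_mem _ hx
    rwa [show (g * x * g⁻¹)⁻¹ = g * x⁻¹ * g⁻¹ by group] at this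

theorem sh_mem_monP (b : Fin q → ZMod p) : sh b ∈ monP q p :=
  Subgroup.subset_closure ⟨isMon_sh b, 1, by rw [pow_one]; exact sh_pow_p b⟩

/-- The even block permutations are in the subgroup. -/
theorem blk_mem_monP (hp : p ≠ 2) (hpq : p ≤ q) {π : Perm (Fin q)} (hπ : π ∈ alternatingGroup (Fin q)) :
    (blk π : Perm (Fin q × ZMod p)) ∈ monP q p := by
  let L : Subgroup (Perm (Fin q)) :=
    { carrier := {π | (blk π : Perm (Fin q × ZMod p)) ∈ monP q p}
      one_mem' := by show blk 1 ∈ monP q p; rw [blk_one]; exact one_mem _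
      mul_mem' := fun {a b} ha hb => by show blk (a * b) ∈ monP q p; rw [blk_mul]; exact mul_mem ha hb
      inv_mem' := fun {a} ha => by
        show blk a⁻¹ ∈ monP q p
        rw [show (blk a⁻¹ : Perm (Fin q × ZMod p)) = (blk a)⁻¹ from
          eq_inv_of_mul_eq_one_left (by rw [← blk_mul, inv_mul_cancel, blk_one])]
        exact inv_mem ha }
  have hconj : ∀ g a : Perm (Fin q), a ∈ L → g * a * g⁻¹ ∈ L := by
    intro g a ha
    show blk (g * a * g⁻¹) ∈ monP q p
    rw [blk_mul, blk_mul, show (blk g⁻¹ : Perm (Fin q × ZMod p)) = (blk g)⁻¹ from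
      eq_inv_of_mul_eq_one_left (by rw [← blk_mul, inv_mul_cancel, blk_one])]
    exact monP_conj (isMon_blk g) ha
  -- an element of order `p`
  have hpd : p ∣ Nat.card (Perm (Fin q)) := by
    rw [Nat.card_eq_fintype_card, Fintype.card_perm, Fintype.card_fin]
    exact Nat.dvd_factorial (Fact.out : p.Prime).pos hpq
  obtain ⟨g, hg⟩ := exists_prime_orderOf_dvd_card' p hpd
  have hgL : g ∈ L := Subgroup.subset_closure ⟨isMon_blk g, 1, by
    rw [pow_one]
    have : ∀ k : ℕ, (blk g : Perm (Fin q × ZMod p)) ^ k = blk (g ^ k) := fun k => by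
      induction k with
      | zero => rw [pow_zero, pow_zero, blk_one]
      | succ k ih => rw [pow_succ, pow_succ, blk_mul, ih]
    rw [this, ← hg, pow_orderOf_eq_one, blk_one]⟩
  obtain ⟨a, ha⟩ : ∃ a, g a ≠ a := by
    by_contra hcon
    push Not at hcon
    rw [show g = 1 from Perm.ext hcon, orderOf_one] at hg
    exact (Fact.out : p.Prime).one_lt.ne hg
  have hga : g (g a) ≠ a := by
    intro e
    apply ha
    obtain ⟨k, hk⟩ := (Fact.out : p.Prime).odd_of_ne_two hp
    have h2 : ∀ j : ℕ, (g ^ (2 * j)) a = a := fun j => by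
      induction j with
      | zero => simp
      | succ j ih => rw [Nat.mul_succ, add_comm, pow_add, Perm.mul_apply, ih, pow_two, Perm.mul_apply, e]
    have h3 : (g ^ p) a = a := by rw [← hg, pow_orderOf_eq_one]; rfl
    rwa [hk, pow_succ', Perm.mul_apply, h2] at h3
  have hc : g * Equiv.swap a (g a) * g⁻¹ * Equiv.swap a (g a) ∈ L := by
    have h1 := hconj (Equiv.swap a (g a)) g⁻¹ (L.inv_mem hgL)
    have h2 := L.mul_mem hgL h1
    rw [swap_inv] at h2
    simpa [mul_assoc] using h2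
  have h3c : (g * Equiv.swap a (g a) * g⁻¹ * Equiv.swap a (g a)).IsThreeCycle := by
    rw [mul_swap_eq_swap_mul g a (g a), mul_inv_cancel_right, Equiv.swap_comm a (g a)]
    exact isThreeCycle_swap_mul_swap_same (fun e => ha (g.injective e).symm) (Ne.symm (fun e => ha e.symm))
      hga
  have hle : alternatingGroup (Fin q) ≤ L := by
    rw [← closure_three_cycles_eq_alternating, Subgroup.closure_le]
    intro σ hσ
    obtain ⟨w, hw⟩ := isConj_iff.mp (isConj_iff_cycleType_eq.mpr (h3c.cycleType.trans hσ.cycleType.symm))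
    rw [← hw]
    exact hconj w _ hc
  exact hle hπ

/-- Products with trivial product. -/
theorem tor_mem_monP (hp : p ≠ 2) (hpq : p ≤ q) {t : Fin q → (ZMod p)ˣ} (ht : ∏ i, t i = 1) :
    tor t ∈ monP q p := by
  have hp3 : 3 ≤ q := by
    have := (Fact.out : p.Prime).two_le
    omega
  let L : Subgroup (Fin q → (ZMod p)ˣ) :=
    { carrier := {t | tor t ∈ monP q p}
      one_mem' := by show tor 1 ∈ monP q p; rw [tor_one]; exact one_mem _
      mul_mem' := fun {a b} ha hb => by show tor (a * b) ∈ monP q p; rw [tor_mul]; exact mul_mem ha hb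
      inv_mem' := fun {a} ha => by
        show tor a⁻¹ ∈ monP q p
        rw [show tor a⁻¹ = (tor a)⁻¹ from
          eq_inv_of_mul_eq_one_left (by rw [← tor_mul, inv_mul_cancel, tor_one])]
        exact inv_mem ha }
  have hpair : ∀ i j : Fin q, ∀ a : (ZMod p)ˣ, Pi.mulSingle i a * Pi.mulSingle j a⁻¹ ∈ L := by
    intro i j a
    by_cases hij : i = j
    · subst hij
      rw [← Pi.mulSingle_mul, mul_inv_cancel, Pi.mulSingle_one]
      exact L.one_mem
    obtain ⟨k, hk⟩ : ∃ k, k ∉ ({i, j} : Finset (Fin q)) := by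
      by_contra hcon
      push Not at hcon
      have := Finset.card_le_card (s := (Finset.univ : Finset (Fin q))) fun k _ => hcon k
      rw [Finset.card_univ, Fintype.card_fin, Finset.card_pair hij] at this
      omega
    simp only [Finset.mem_insert, Finset.mem_singleton, not_or] at hk
    set π : Perm (Fin q) := Equiv.swap i j * Equiv.swap i k with hπ
    have hπA : π ∈ alternatingGroup (Fin q) :=
      (isThreeCycle_swap_mul_swap_same hij (Ne.symm hk.1) (Ne.symm hk.2)).mem_alternatingGroup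
    have hπk : π k = j := by
      rw [hπ, Perm.mul_apply, swap_apply_right, swap_apply_left]
    have hπi : π i = k := by
      rw [hπ, Perm.mul_apply, swap_apply_left, swap_apply_of_ne_of_ne hk.1 hk.2]
    have hπA' : π⁻¹ ∈ alternatingGroup (Fin q) := inv_mem hπA
    have hπA2 : π * π ∈ alternatingGroup (Fin q) := mul_mem hπA hπA
    -- commutator of a multiplication with a block permutation
    set s : Fin q → (ZMod p)ˣ := Pi.mulSingle i a with hs
    set σ : Perm (Fin q) := π * π with hσ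
    have hσi : σ i = j := by rw [hσ, Perm.mul_apply, hπi, hπk]
    have h1 : tor s * blk σ * (tor s)⁻¹ * (blk σ)⁻¹ ∈ monP q p :=
      mul_mem (monP_conj (isMon_tor s) (blk_mem_monP hp hpq hπA2)) (inv_mem (blk_mem_monP hp hpq hπA2))
    have h2 : tor s * blk σ * (tor s)⁻¹ * (blk σ)⁻¹ = tor (Pi.mulSingle i a * Pi.mulSingle j a⁻¹) := by
      rw [mul_inv_eq_iff_eq_mul, mul_inv_eq_iff_eq_mul]
      refine Perm.ext fun ⟨l, x⟩ => ?_
      simp only [Perm.mul_apply, blk_apply, tor_apply, Pi.mul_apply, Prod.mk.injEq, true_and, hs]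
      by_cases hl : l = i
      · subst hl
        rw [hσi, Pi.mulSingle_eq_same, Pi.mulSingle_eq_same, Pi.mulSingle_eq_of_ne (Ne.symm hij)]
        rw [Units.val_one, one_mul, one_mul, ← mul_assoc, Units.inv_mul, one_mul]
      · have hlj : σ l ≠ j := fun e => hl (σ.injective (e.trans hσi.symm))
        rw [Pi.mulSingle_eq_of_ne hl, Pi.mulSingle_eq_of_ne hlj]
        simp
    show tor _ ∈ monP q p
    rw [← h2]
    exact h1
  have i0 : Fin q := ⟨0, by omega⟩
  have hdec : t = ∏ j : Fin q, (Pi.mulSingle j (t j) * Pi.mulSingle i0 (t j)⁻¹) := by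
    rw [Finset.prod_mul_distrib, Finset.univ_prod_mulSingle]
    have : ∏ j : Fin q, Pi.mulSingle (M := fun _ => (ZMod p)ˣ) i0 (t j)⁻¹ = 1 := by
      funext l
      rw [Finset.prod_apply]
      by_cases hl : l = i0
      · subst hl
        simp [Finset.prod_inv_distrib, ht]
      · simp [Pi.mulSingle_eq_of_ne hl]
    rw [this, mul_one]
  show t ∈ L
  rw [hdec]
  exact L.prod_mem fun j _ => hpair j i0 (t j)

/-- An even affine permutation is a product of `p`-elements and of a given even affine permutation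
with the same determinant. -/
theorem mem_monP_mul (hp : p ≠ 2) (hpq : p ≤ q) {σ d : Perm (Fin q × ZMod p)} {π πd : Perm (Fin q)}
    {t td : Fin q → (ZMod p)ˣ} {b bd : Fin q → ZMod p}
    (hσ : ∀ i x, σ (i, x) = (π i, (t i : ZMod p) * x + b i))
    (hd : ∀ i x, d (i, x) = (πd i, (td i : ZMod p) * x + bd i))
    (hsig : sign σ = sign d) (hprod : ∏ i, t i = ∏ i, td i) : σ * d⁻¹ ∈ monP q p := by
  have key : ∀ (τ : Perm (Fin q × ZMod p)) (π : Perm (Fin q)) (t : Fin q → (ZMod p)ˣ) (b : Fin q → ZMod p),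
      (∀ i x, τ (i, x) = (π i, (t i : ZMod p) * x + b i)) → τ = blk π * (sh b * tor t) := fun τ π t b h =>
    Perm.ext fun ⟨i, x⟩ => by simp [h]
  have hsmall : sh b * (tor t * (tor td)⁻¹) * (sh bd)⁻¹ ∈ monP q p := by
    refine mul_mem (mul_mem (sh_mem_monP b) ?_) (inv_mem (sh_mem_monP bd))
    rw [show tor t * (tor td)⁻¹ = tor (t * td⁻¹) by
      rw [tor_mul]; congr 1]
    refine tor_mem_monP hp hpq ?_
    simp only [Pi.mul_apply, Pi.inv_apply, Finset.prod_mul_distrib, Finset.prod_inv_distrib, hprod,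
      mul_inv_cancel]
  have hfac : σ * d⁻¹ = blk π * (sh b * (tor t * (tor td)⁻¹) * (sh bd)⁻¹) * (blk π)⁻¹ *
      blk (π * πd⁻¹) := by
    rw [key σ π t b hσ, key d πd td bd hd, blk_mul,
      show (blk πd⁻¹ : Perm (Fin q × ZMod p)) = (blk πd)⁻¹ from
        eq_inv_of_mul_eq_one_left (by rw [← blk_mul, inv_mul_cancel, blk_one])]
    group
  rw [hfac]
  refine mul_mem (monP_conj (isMon_blk π) hsmall) (blk_mem_monP hp hpq ?_)
  have hsgn1 : ∀ τ ∈ monP q p, sign τ = 1 := by
    intro τ hτ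
    unfold monP at hτ
    induction hτ using Subgroup.closure_induction with
    | mem x hx =>
      obtain ⟨-, k, hk⟩ := hx
      rcases Int.units_eq_one_or (sign x) with h | h
      · exact h
      · have h1 := congrArg sign hk
        rw [map_pow, h, map_one, ((Fact.out : p.Prime).odd_of_ne_two hp).pow.neg_one_pow] at h1
        exact absurd h1 (by decide)
    | one => exact map_one _
    | mul x y _ _ hx hy => rw [map_mul, hx, hy, one_mul]
    | inv x _ hx => rw [map_inv, hx, inv_one]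
  have hblk : ∀ τ : Perm (Fin q), sign (blk τ : Perm (Fin q × ZMod p)) = sign τ := by
    intro τ
    rw [show (blk τ : Perm (Fin q × ZMod p)) =
      (Equiv.prodComm (ZMod p) (Fin q)).permCongr (prodCongrRight fun _ => τ) from
        Perm.ext fun ⟨i, x⟩ => rfl, sign_permCongr, sign_prodCongrRight, Finset.prod_const,
      Finset.card_univ, ZMod.card]
    rcases Int.units_eq_one_or (sign τ) with h | h
    · rw [h, one_pow]
    · rw [h, ((Fact.out : p.Prime).odd_of_ne_two hp).neg_one_pow]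
  have h1 := congrArg sign hfac
  rw [map_mul, map_inv, map_mul, hsgn1 _ (monP_conj (isMon_blk π) hsmall), one_mul, hblk, hsig,
    mul_inv_cancel] at h1
  exact mem_alternatingGroup.mpr h1.symm

end CfsgLib.FusionAlt
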