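import Mathlib

/-!
Splitting a permutation of prime power order inside a `p`-group.
-/

set_option autoImplicit false

namespace CfsgLib.FusionAlt

open Equiv Equiv.Perm Function

variable {α : Type*} [Fintype α] [DecidableEq α]

/-- For a permutation `s` of `p`-power order there is a permutation `h` of order `p` commuting with
it, acting in each nontrivial orbit as the element of order `p` of that cycle; the permutations
commuting with `h` and preserving its orbits form with `s` a `p`-group. -/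
theorem exists_companion {p k : ℕ} (hp : p.Prime) {s : Perm α} (hs : s ^ p ^ k = 1) :
    ∃ h : Perm α, h ^ p = 1 ∧
      (∀ a, h a = (⇑s)^[minimalPeriod s a / p] a) ∧
      ∃ Q : Subgroup (Perm α), IsPGroup p Q ∧ s ∈ Q ∧
        ∀ σ : Perm α, Commute σ h → (∀ a, h.SameCycle a (σ a)) → σ ∈ Q := by
  have : Fact p.Prime := ⟨hp⟩
  have hper : ∀ a, (⇑s)^[p ^ k] a = a := fun a => by rw [← Perm.coe_pow, hs]; rfl
  have hperiodic : ∀ a, a ∈ periodicPts (⇑s) := fun a => mk_mem_periodicPts (pow_pos hp.pos k) (hper a)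
  set f : α → α := fun a => (⇑s)^[minimalPeriod s a / p] a with hf
  have hdvd : ∀ a, minimalPeriod s a ∣ p ^ k := fun a => IsPeriodicPt.minimalPeriod_dvd (hper a)
  have hfi : ∀ (i : ℕ) a, f^[i] a = (⇑s)^[i * (minimalPeriod s a / p)] a := by
    intro i a
    induction i with
    | zero => simp
    | succ i ih =>
      rw [iterate_succ_apply', ih, hf]
      simp only
      rw [minimalPeriod_apply_iterate (hperiodic a), ← iterate_add_apply, Nat.succ_mul, add_comm]
  have hfp : ∀ a, f^[p] a = a := by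
    intro a
    rw [hfi]
    obtain ⟨j, -, hj⟩ := (Nat.dvd_prime_pow hp).mp (hdvd a)
    rcases Nat.eq_zero_or_pos j with rfl | hj0
    · rw [hj, pow_zero, Nat.div_eq_of_lt hp.one_lt, mul_zero]; rfl
    · rw [Nat.mul_div_cancel' (hj ▸ dvd_pow_self p hj0.ne')]
      exact iterate_minimalPeriod
  have hbij : Bijective f := by
    refine bijective_iff_has_inverse.mpr ⟨f^[p - 1], fun a => ?_, fun a => ?_⟩
    · rw [← iterate_succ_apply, Nat.succ_eq_add_one, Nat.sub_add_cancel hp.one_le, hfp]
    · rw [← iterate_succ_apply' f, Nat.succ_eq_add_one, Nat.sub_add_cancel hp.one_le, hfp]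
  let h : Perm α := Equiv.ofBijective f hbij
  have hh : h ^ p = 1 := Perm.ext fun a => by
    rw [Perm.coe_pow]
    exact hfp a
  have hhs : Commute s h := Perm.ext fun a => by
    show s (f a) = f (s a)
    rw [hf]
    simp only
    rw [minimalPeriod_apply (hperiodic a), ← iterate_succ_apply, iterate_succ_apply']
  let E : Subgroup (Perm α) :=
    { carrier := {σ | Commute σ h ∧ ∀ a, h.SameCycle a (σ a)}
      one_mem' := ⟨Commute.one_left h, fun a => SameCycle.refl h a⟩
      mul_mem' := fun {σ τ} hσ hτ => ⟨hσ.1.mul_left hτ.1, fun a => (hτ.2 a).trans (hσ.2 (τ a))⟩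
      inv_mem' := fun {σ} hσ => ⟨hσ.1.inv_left, fun a => by
        have := (hσ.2 (σ⁻¹ a)).symm
        simpa using this⟩ }
  have hEp : IsPGroup p E := by
    rintro ⟨σ, hσc, hσo⟩
    refine ⟨1, Subtype.ext ?_⟩
    rw [pow_one, SubgroupClass.coe_pow]
    refine Perm.ext fun a => ?_
    obtain ⟨i, hi⟩ := hσo a
    have hstep : ∀ m : ℕ, (σ ^ m) a = (h ^ (i * m)) a := by
      intro m
      induction m with
      | zero => simp
      | succ m ih =>
        rw [pow_succ', Perm.mul_apply, ih, ← Perm.mul_apply, (hσc.zpow_right _).eq, Perm.mul_apply,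
          ← hi, ← Perm.mul_apply, ← zpow_add]
        congr 2
        push_cast
        ring
    show (σ ^ p) a = a
    rw [hstep, mul_comm, zpow_mul, zpow_natCast, hh, one_zpow]
    rfl
  have hSn : Subgroup.zpowers s ≤ Subgroup.normalizer (E : Set (Perm α)) := by
    rw [Subgroup.zpowers_le, Subgroup.mem_normalizer_iff]
    have key : ∀ t : Perm α, Commute t h → ∀ σ ∈ E, t * σ * t⁻¹ ∈ E := by
      rintro t ht σ ⟨hσc, hσo⟩
      refine ⟨(ht.mul_left hσc).mul_left ht.inv_left, fun a => ?_⟩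
      obtain ⟨i, hi⟩ := hσo (t⁻¹ a)
      refine ⟨i, ?_⟩
      show (h ^ i) a = t (σ (t⁻¹ a))
      rw [← hi, ← Perm.mul_apply t, (ht.zpow_right i).eq, Perm.mul_apply]
      simp
    intro σ
    refine ⟨key s hhs σ, fun hσ => ?_⟩
    simpa [mul_assoc] using key s⁻¹ hhs.inv_left _ hσ
  refine ⟨h, hh, fun a => rfl, E ⊔ Subgroup.zpowers s, hEp.to_sup_of_normal_left' ?_ hSn,
    Subgroup.mem_sup_right (Subgroup.mem_zpowers s), fun σ h1 h2 => Subgroup.mem_sup_left ⟨h1, h2⟩⟩
  rintro ⟨x, hx⟩
  refine ⟨k, Subtype.ext ?_⟩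
  obtain ⟨i, rfl⟩ := Subgroup.mem_zpowers_iff.mp hx
  rw [SubgroupClass.coe_pow]
  show (s ^ i) ^ p ^ k = 1
  rw [← zpow_natCast, ← zpow_mul, mul_comm, zpow_mul, zpow_natCast, hs, one_zpow]

/-- Cycles of `h` lie in the subgroup of the previous statement. -/
theorem cycleOf_spec (h : Perm α) (x : α) :
    Commute (h.cycleOf x) h ∧ ∀ a, h.SameCycle a (h.cycleOf x a) := by
  refine ⟨Perm.ext fun a => ?_, fun a => ?_⟩
  · simp only [Perm.mul_apply, cycleOf_apply, sameCycle_apply_right]
    split_ifs <;> rfl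
  · rw [cycleOf_apply]
    split_ifs
    · exact sameCycle_apply_right.mpr (SameCycle.refl h a)
    · exact SameCycle.refl h a

/-- The pairs of points in one orbit. -/
noncomputable def orbitPairs (s : Perm α) : Finset (α × α) :=
  Finset.univ.filter fun ab => s.SameCycle ab.1 ab.2

/-- Multiplying by the inverse of a permutation following the companion on one orbit splits it. -/
theorem orbitPairs_lt {p k : ℕ} (hp : p.Prime) {s h u : Perm α} (hs : s ^ p ^ k = 1) (hh : h ^ p = 1)
    (hhe : ∀ a, h a = (⇑s)^[minimalPeriod s a / p] a) (hu : ∀ a, h.SameCycle a (u a))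
    {x : α} (hx : s x ≠ x) (hux : ∀ a, s.SameCycle x a → u a = h.cycleOf x a) :
    (orbitPairs (s * u⁻¹)).card < (orbitPairs s).card := by
  have hper : ∀ a, (⇑s)^[p ^ k] a = a := fun a => by rw [← Perm.coe_pow, hs]; rfl
  have hperiodic : ∀ a, a ∈ periodicPts (⇑s) := fun a => mk_mem_periodicPts (pow_pos hp.pos k) (hper a)
  have hsh : ∀ a b, h.SameCycle a b → s.SameCycle a b := by
    intro a b hab
    obtain ⟨i, -, -, rfl⟩ := hab.exists_pow_eq''
    clear hab
    induction i with
    | zero => exact SameCycle.refl s a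
    | succ i ih =>
      rw [pow_succ', Perm.mul_apply, hhe, ← Perm.coe_pow]
      exact ih.trans ⟨(minimalPeriod s ((h ^ i) a) / p : ℕ), by rw [zpow_natCast]⟩
  have hsub : ∀ a b, (s * u⁻¹).SameCycle a b → s.SameCycle a b := by
    intro a b hab
    obtain ⟨i, -, -, rfl⟩ := hab.exists_pow_eq''
    clear hab
    induction i with
    | zero => exact SameCycle.refl s a
    | succ i ih =>
      rw [pow_succ', Perm.mul_apply, Perm.mul_apply, sameCycle_apply_right]
      refine ih.trans (hsh _ _ ?_)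
      have := (hu (u⁻¹ (((s * u⁻¹) ^ i) a))).symm
      simpa using this
  -- the orbit of `x`
  have hpos : 0 < minimalPeriod s x := minimalPeriod_pos_of_mem_periodicPts (hperiodic x)
  obtain ⟨j, -, hj⟩ := (Nat.dvd_prime_pow hp).mp (IsPeriodicPt.minimalPeriod_dvd (hper x))
  have hj0 : j ≠ 0 := by
    rintro rfl
    rw [pow_zero, minimalPeriod_eq_one_iff_isFixedPt] at hj
    exact hx hj
  obtain ⟨P, hP⟩ : ∃ P, P = minimalPeriod s x := ⟨_, rfl⟩
  obtain ⟨m, hm⟩ : ∃ m, m = P / p := ⟨_, rfl⟩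
  have hPm : P = p * m := by rw [hm, Nat.mul_div_cancel' (by rw [hP, hj]; exact dvd_pow_self p hj0)]
  have hm0 : 0 < m := by
    rcases Nat.eq_zero_or_pos m with h0 | h0
    · rw [h0, mul_zero] at hPm; omega
    · exact h0
  have hp1 : p - 1 + 1 = p := Nat.sub_add_cancel hp.one_le
  have hPm' : P = (p - 1) * m + m := by rw [hPm]; nth_rw 1 [← hp1]; ring
  have hhpow : ∀ i, (h ^ i) x = (⇑s)^[i * m] x := by
    intro i
    induction i with
    | zero => simp
    | succ i ih =>
      rw [pow_succ', Perm.mul_apply, ih, hhe, minimalPeriod_apply_iterate (hperiodic x), ← hP, ← hm,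
        ← iterate_add_apply, Nat.succ_mul, add_comm]
  have hsx : ∀ i, s.SameCycle x ((⇑s)^[i] x) := fun i => ⟨(i : ℤ), by rw [zpow_natCast, Perm.coe_pow]⟩
  have hend : (⇑s)^[(p - 1) * m + m] x = x := by rw [← hPm', hP]; exact iterate_minimalPeriod
  have hux' : u⁻¹ x = (⇑s)^[(p - 1) * m] x := by
    rw [Perm.inv_eq_iff_eq, hux _ (hsx _), cycleOf_apply, ← hhpow,
      if_pos (sameCycle_pow_right.mpr (SameCycle.refl h x)), ← Perm.mul_apply, ← pow_succ', hp1, hh]
    rfl
  have hfix : ∀ i, 1 ≤ i → i < m → u⁻¹ ((⇑s)^[(p - 1) * m + i] x) = (⇑s)^[(p - 1) * m + i] x := by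
    intro i hi hi'
    rw [Perm.inv_eq_iff_eq, hux _ (hsx _), cycleOf_apply]
    rw [if_neg]
    intro hsc
    obtain ⟨l, -, -, hl⟩ := hsc.exists_pow_eq''
    have hlp : (h ^ (l % p)) x = (h ^ l) x := by
      conv_rhs => rw [← Nat.mod_add_div l p, pow_add, pow_mul, hh, one_pow, mul_one]
    rw [← hlp, hhpow] at hl
    have h1 : l % p * m < P := by
      rw [hPm]; exact (Nat.mul_lt_mul_right hm0).mpr (Nat.mod_lt _ hp.pos)
    have h2 : (p - 1) * m + i < P := by omega
    have h3 := (iterate_eq_iterate_iff_of_lt_minimalPeriod (hP ▸ h1) (hP ▸ h2)).mp hl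
    have hl' : l % p ≤ p - 1 := by have := Nat.mod_lt l hp.pos; omega
    have := Nat.mul_le_mul_right m hl'
    omega
  have horb : ∀ n : ℕ, ∃ i, 1 ≤ i ∧ i ≤ m ∧ ((s * u⁻¹) ^ n) x = (⇑s)^[(p - 1) * m + i] x := by
    intro n
    induction n with
    | zero => exact ⟨m, hm0, le_rfl, by rw [hend]; rfl⟩
    | succ n ih =>
      obtain ⟨i, hi, hi', he⟩ := ih
      rw [pow_succ', Perm.mul_apply, he, Perm.mul_apply]
      rcases lt_or_eq_of_le hi' with hlt | rfl
      · exact ⟨i + 1, by omega, hlt, by rw [hfix i hi hlt, ← add_assoc, iterate_succ_apply']⟩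
      · exact ⟨1, le_rfl, hm0, by rw [hend, hux', iterate_succ_apply']⟩
  refine Finset.card_lt_card ⟨fun ab hab => ?_, fun hsup => ?_⟩
  · simp only [orbitPairs, Finset.mem_filter, Finset.mem_univ, true_and] at hab ⊢
    exact hsub _ _ hab
  · have h1 : (x, (⇑s)^[(p - 1) * m] x) ∈ orbitPairs s := by simp [orbitPairs, hsx]
    have h2 := hsup h1
    simp only [orbitPairs, Finset.mem_filter, Finset.mem_univ, true_and] at h2
    obtain ⟨n, -, -, hn⟩ := h2.exists_pow_eq''
    obtain ⟨i, hi, hi', he⟩ := horb n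
    rw [hn] at he
    rcases lt_or_eq_of_le hi' with hlt | rfl
    · have := (iterate_eq_iterate_iff_of_lt_minimalPeriod (hP ▸ (by omega : (p - 1) * m < P))
        (hP ▸ (by omega : (p - 1) * m + i < P))).mp he
      omega
    · rw [hend] at he
      have h0 : (⇑s)^[(p - 1) * i] x = (⇑s)^[0] x := he
      have := (iterate_eq_iterate_iff_of_lt_minimalPeriod (hP ▸ (by omega : (p - 1) * i < P))
        hpos).mp h0
      have h3 : 0 < (p - 1) * i := Nat.mul_pos (by have := hp.one_lt; omega) hm0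
      omega

end CfsgLib.FusionAlt
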