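import Cfsg.Agent.Lib.Fusion.SimpleGroup
import Cfsg.Agent.Lib.FusionAlt.PermSplit

/-!
The fusion systems of alternating groups have no proper nontrivial strongly closed subgroups.
-/

set_option autoImplicit false

namespace CfsgLib.FusionAlt

open Cfsg Cfsg.FusionSystem CfsgLib.Fusion CfsgLib.FusionExtend Equiv Equiv.Perm

variable {α : Type*} [Fintype α] [DecidableEq α] {p : ℕ} [Fact p.Prime]

section Closure

variable {G : Type*} [Group G] [Finite G] {S : Sylow p G} {T : Subgroup G}

/-- `s` has a conjugate in `T`. -/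
def InC (T : Subgroup G) (s : G) : Prop := ∃ c : G, c * s * c⁻¹ ∈ T

omit [Finite G] in
theorem InC.conj {s : G} (h : InC T s) (g : G) : InC T (g * s * g⁻¹) := by
  obtain ⟨c, hc⟩ := h
  exact ⟨c * g⁻¹, by simpa [mul_assoc] using hc⟩

omit [Finite G] in
theorem InC.inv {s : G} (h : InC T s) : InC T s⁻¹ := by
  obtain ⟨c, hc⟩ := h
  exact ⟨c, by simpa [mul_assoc] using T.inv_mem hc⟩

omit [Finite G] [Fact p.Prime] in
theorem mem_of_inC (hT : (groupFusionSystem (S : Subgroup G)).StronglyClosed T) {s : G}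
    (hs : s ∈ (S : Subgroup G)) (h : InC T s) : s ∈ T := by
  obtain ⟨c, hc⟩ := h
  have hZ : Subgroup.zpowers (c * s * c⁻¹) ≤ (S : Subgroup G) := Subgroup.zpowers_le.mpr (hT.1 hc)
  have hφ : (MulAut.conj c⁻¹).toMonoidHom.comp (Subgroup.zpowers (c * s * c⁻¹)).subtype ∈
      (groupFusionSystem (S : Subgroup G)).Hom (Subgroup.zpowers (c * s * c⁻¹)) := by
    refine ⟨hZ, fun v => ?_, c⁻¹, fun v => rfl⟩
    obtain ⟨v, hv⟩ := v
    obtain ⟨n, rfl⟩ := Subgroup.mem_zpowers_iff.mp hv
    show c⁻¹ * (c * s * c⁻¹) ^ n * c⁻¹⁻¹ ∈ (S : Subgroup G)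
    rw [← MulAut.conj_apply, map_zpow, MulAut.conj_apply]
    exact zpow_mem (by simpa [mul_assoc] using hs) n
  have := sc_apply hT hφ ⟨_, Subgroup.mem_zpowers _⟩ hc
  simpa [mul_assoc] using this

theorem InC.mul (hT : (groupFusionSystem (S : Subgroup G)).StronglyClosed T) {x y : G}
    (hx : InC T x) (hy : InC T y) (Q : Subgroup G) (hQ : IsPGroup p Q) (hxQ : x ∈ Q) (hyQ : y ∈ Q) :
    InC T (x * y) := by
  obtain ⟨P, hP⟩ := hQ.exists_le_sylow
  obtain ⟨g, hg⟩ := MulAction.exists_smul_eq G P S
  have hmem : ∀ z ∈ Q, g * z * g⁻¹ ∈ (S : Subgroup G) := by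
    intro z hz
    rw [← hg, Sylow.coe_subgroup_smul, Subgroup.mem_pointwise_smul_iff_inv_smul_mem]
    simpa [MulAut.smul_def, mul_assoc] using hP hz
  refine ⟨g, ?_⟩
  rw [show g * (x * y) * g⁻¹ = g * x * g⁻¹ * (g * y * g⁻¹) by group]
  exact T.mul_mem (mem_of_inC hT (hmem x hxQ) (hx.conj g)) (mem_of_inC hT (hmem y hyQ) (hy.conj g))

end Closure

/-- Permutations conjugate in the symmetric group, one of them commuting with an odd permutation,
are conjugate in the alternating group. -/
theorem exists_alt_conj {x y : alternatingGroup α} (h : IsConj (x : Perm α) y)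
    (hodd : ∃ w : Perm α, Commute w x ∧ sign w = -1) : ∃ g : alternatingGroup α, g * x * g⁻¹ = y := by
  obtain ⟨g, hg⟩ := isConj_iff.mp h
  rcases Int.units_eq_one_or (sign g) with hs | hs
  · exact ⟨⟨g, mem_alternatingGroup.mpr hs⟩, Subtype.ext hg⟩
  · obtain ⟨w, hw, hws⟩ := hodd
    refine ⟨⟨g * w, mem_alternatingGroup.mpr (by rw [map_mul, hs, hws]; rfl)⟩, Subtype.ext ?_⟩
    show g * w * (x : Perm α) * (g * w)⁻¹ = y
    rw [← hg, mul_assoc g w, hw.eq, ← mul_assoc, mul_inv_rev, mul_assoc (g * (x : Perm α)) w,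
      ← mul_assoc w, mul_inv_cancel, one_mul]

/-- An element of order `p` of the alternating group commutes with an odd permutation. -/
theorem exists_odd_commute {x : Perm α} (hx : orderOf x = p) (hn : 2 * p ≤ Fintype.card α) :
    ∃ w : Perm α, Commute w x ∧ sign w = -1 := by
  by_contra hcon
  have hle : Subgroup.centralizer {x} ≤ alternatingGroup α := by
    intro w hw
    rw [mem_alternatingGroup]
    rcases Int.units_eq_one_or (sign w) with h | h
    · exact h
    · exact absurd ⟨w, Subgroup.mem_centralizer_singleton_iff.mp hw, h⟩ hcon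
  obtain ⟨-, h2, h3⟩ := centralizer_le_alternating_iff.mp hle
  obtain ⟨k, hk⟩ := cycleType_prime_order (σ := x) (hx ▸ Fact.out)
  have h4 := h3 p
  rw [hk, hx, Multiset.count_replicate_self] at h4
  rw [hk, hx, Multiset.sum_replicate, smul_eq_mul] at h2
  have hk0 : k = 0 := by omega
  have := (Fact.out : p.Prime).two_le
  rw [hk0] at h2
  omega

theorem cycleType_of_order_eq {c : Perm α} (hc : orderOf c = p) (hs : c.support.card ≤ p) :
    c.cycleType = {p} := by
  obtain ⟨k, hk⟩ := cycleType_prime_order (σ := c) (hc ▸ Fact.out)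
  have h1 : c.cycleType.sum = c.support.card := sum_cycleType c
  rw [hk, hc, Multiset.sum_replicate, smul_eq_mul] at h1
  have hp0 := (Fact.out : p.Prime).pos
  have hk0 : k = 0 := by
    by_contra h
    have := Nat.mul_le_mul_right p (show 2 ≤ k + 1 by omega)
    omega
  rw [hk, hc, hk0]
  rfl

/-- A permutation of odd prime order is even. -/
theorem mem_alternating_of_pow_eq_one (hp : p ≠ 2) {x : Perm α} {k : ℕ} (hx : x ^ p ^ k = 1) :
    x ∈ alternatingGroup α := by
  rw [mem_alternatingGroup]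
  rcases Int.units_eq_one_or (sign x) with h | h
  · exact h
  · have h1 := congrArg sign hx
    rw [map_pow, h, map_one, ((Fact.out : p.Prime).odd_of_ne_two hp).pow.neg_one_pow] at h1
    exact absurd h1 (by decide)

variable {S : Sylow p (alternatingGroup α)} {T : Subgroup (alternatingGroup α)}

theorem cycleOf_pow_card_cycle {h : Perm α} (hh : h ^ p = 1) {x : α} (hx : h x ≠ x) :
    (h.cycleOf x).IsCycle ∧ orderOf (h.cycleOf x) = p := by
  refine ⟨isCycle_cycleOf h hx, orderOf_eq_prime ?_ ?_⟩
  · refine Perm.ext fun a => ?_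
    by_cases ha : h.SameCycle x a
    · rw [ha.cycleOf_eq, cycleOf_pow_apply_self, hh]
    · have : (h.cycleOf x) a = a := cycleOf_apply_of_not_sameCycle ha
      exact pow_apply_eq_self_of_apply_eq_self this p
  · intro h1
    exact hx (by rw [← cycleOf_apply_self h x, h1]; rfl)

/-- For odd `p`, a nontrivial strongly closed subgroup reaches every `p`-cycle. -/
theorem inC_of_cycleType (hp : p ≠ 2) (hn : 2 * p ≤ Fintype.card α)
    (hT : (groupFusionSystem (S : Subgroup (alternatingGroup α))).StronglyClosed T) (hT1 : T ≠ ⊥)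
    {u : alternatingGroup α} (hu : (u : Perm α).cycleType = {p}) : InC T u := by
  have hTp : IsPGroup p T := S.2.to_le hT.1
  have hdvd : p ∣ Nat.card T := by
    obtain ⟨j, hj⟩ := IsPGroup.iff_card.mp hTp
    rw [hj]
    refine dvd_pow_self p ?_
    rintro rfl
    exact hT1 (Subgroup.card_eq_one.mp hj)
  obtain ⟨⟨x, hxT⟩, hx⟩ := exists_prime_orderOf_dvd_card' p hdvd
  have hxo : orderOf (x : Perm α) = p := by
    rwa [Subgroup.orderOf_coe, ← Subgroup.orderOf_mk x hxT]
  obtain ⟨a, ha⟩ : ∃ a, (x : Perm α) a ≠ a := by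
    by_contra hcon
    push Not at hcon
    rw [show (x : Perm α) = 1 from Perm.ext hcon, orderOf_one] at hxo
    exact (Fact.out : p.Prime).one_lt.ne hxo
  have hxp : (x : Perm α) ^ p = 1 := by rw [← hxo, pow_orderOf_eq_one]
  obtain ⟨hcyc, hco⟩ := cycleOf_pow_card_cycle hxp ha
  set c := (x : Perm α).cycleOf a with hc
  have hcs : c.support.card = p := by rw [← hcyc.orderOf, hco]
  have hc1 : c.cycleType = {p} := cycleType_of_order_eq hco hcs.le
  have hc2o : orderOf (c ^ 2) = p := by
    rw [Nat.Coprime.orderOf_pow (hco ▸ ((Nat.coprime_primes Fact.out Nat.prime_two).mpr hp)), hco]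
  have hc2 : (c ^ 2).cycleType = {p} :=
    cycleType_of_order_eq hc2o ((Finset.card_le_card (support_pow_le c 2)).trans hcs.le)
  have hmem : c ∈ (x : Perm α).cycleFactorsFinset :=
    cycleOf_mem_cycleFactorsFinset_iff.mpr (mem_support.mpr ha)
  have hd : Perm.Disjoint ((x : Perm α) * c⁻¹) c := disjoint_mul_inv_of_mem_cycleFactorsFinset hmem
  obtain ⟨d, hd'⟩ : ∃ d, d = (x : Perm α) * c⁻¹ := ⟨_, rfl⟩
  rw [← hd'] at hd
  have hxd : (x : Perm α) = d * c := by rw [hd', inv_mul_cancel_right]
  have hcA : c ∈ alternatingGroup α :=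
    mem_alternating_of_pow_eq_one hp (k := 1) (by rw [pow_one, ← hco, pow_orderOf_eq_one])
  let c' : alternatingGroup α := ⟨c, hcA⟩
  have hyct : IsConj (x : Perm α) ((x * c' : alternatingGroup α) : Perm α) := by
    rw [isConj_iff_cycleType_eq]
    show (x : Perm α).cycleType = ((x : Perm α) * c).cycleType
    have hd2 : Perm.Disjoint d (c ^ 2) := by
      have := Equiv.Perm.Disjoint.pow_disjoint_pow hd 1 2
      rwa [pow_one] at this
    rw [hxd, mul_assoc, ← pow_two, hd.cycleType_mul, hd2.cycleType_mul, hc1, hc2]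
  have hodd := exists_odd_commute hxo hn
  obtain ⟨g, hg⟩ := exists_alt_conj hyct hodd
  have hxC : InC T x := ⟨1, by simpa using hxT⟩
  have hyC : InC T (x * c') := hg ▸ hxC.conj g
  have hcomm : Commute x c' := Subtype.ext (by
    show (x : Perm α) * c = c * (x : Perm α)
    rw [hxd, mul_assoc, ← mul_assoc c d, ← hd.commute.eq, mul_assoc])
  -- the group generated by `x` and `c'`
  have hQ : IsPGroup p (Subgroup.zpowers x ⊔ Subgroup.zpowers c' : Subgroup (alternatingGroup α)) := by
    refine IsPGroup.to_sup_of_normal_left' ?_ ?_ ?_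
    · exact IsPGroup.of_card (n := 1) (by rw [Nat.card_zpowers, ← Subgroup.orderOf_coe, hxo, pow_one])
    · exact IsPGroup.of_card (n := 1) (by rw [Nat.card_zpowers, ← Subgroup.orderOf_coe, hco, pow_one])
    · refine (Subgroup.zpowers_le.mpr ?_).trans (Subgroup.centralizer_le_normalizer _)
      rintro _ ⟨i, rfl⟩
      exact (hcomm.zpow_left i).eq
  have hcC : InC T c' := by
    have := hxC.inv.mul hT hyC _ hQ (Subgroup.inv_mem _ (Subgroup.mem_sup_left (Subgroup.mem_zpowers x)))
      (Subgroup.mul_mem _ (Subgroup.mem_sup_left (Subgroup.mem_zpowers x))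
        (Subgroup.mem_sup_right (Subgroup.mem_zpowers c')))
    rwa [inv_mul_cancel_left] at this
  have hcu : IsConj (c' : Perm α) u := isConj_iff_cycleType_eq.mpr (hc1.trans hu.symm)
  obtain ⟨g', hg'⟩ := exists_alt_conj hcu (exists_odd_commute hco hn)
  exact hg' ▸ hcC.conj g'

/-- A nontrivial strongly closed subgroup of the `p`-fusion system of an alternating group, `p` odd,
reaches every `p`-element. -/
theorem inC_of_odd (hp : p ≠ 2) (hn : 2 * p ≤ Fintype.card α)
    (hT : (groupFusionSystem (S : Subgroup (alternatingGroup α))).StronglyClosed T) (hT1 : T ≠ ⊥) :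
    ∀ (N k : ℕ) (s : alternatingGroup α), (orbitPairs (s : Perm α)).card < N → s ^ p ^ k = 1 →
      InC T s := by
  intro N
  induction N with
  | zero => intro k s h; omega
  | succ N ih =>
    intro k s hN hs
    by_cases hs1 : (s : Perm α) = 1
    · rw [show s = 1 from Subtype.ext hs1]
      exact ⟨1, by simp⟩
    have hs' : (s : Perm α) ^ p ^ k = 1 := congrArg Subtype.val hs
    obtain ⟨x, hx⟩ : ∃ x, (s : Perm α) x ≠ x := by
      by_contra hcon
      push Not at hcon
      exact hs1 (Perm.ext hcon)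
    obtain ⟨h, hh, hhe, Q, hQ, hsQ, hEQ⟩ := exists_companion Fact.out hs'
    have hhx : h x ≠ x := by
      intro e
      have hpos : 0 < Function.minimalPeriod (s : Perm α) x :=
        Function.minimalPeriod_pos_of_mem_periodicPts
          (Function.mk_mem_periodicPts (pow_pos (Fact.out : p.Prime).pos k)
            (by show (⇑(s : Perm α))^[p ^ k] x = x; rw [← Perm.coe_pow, hs']; rfl))
      have hd : p ∣ Function.minimalPeriod (s : Perm α) x := by
        obtain ⟨j, -, hj⟩ := (Nat.dvd_prime_pow Fact.out).mp (Function.IsPeriodicPt.minimalPeriod_dvd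
          (show Function.IsPeriodicPt (s : Perm α) (p ^ k) x by
            show (⇑(s : Perm α))^[p ^ k] x = x; rw [← Perm.coe_pow, hs']; rfl))
        rw [hj]
        refine dvd_pow_self p ?_
        rintro rfl
        rw [pow_zero, Function.minimalPeriod_eq_one_iff_isFixedPt] at hj
        exact hx hj
      have hlt : Function.minimalPeriod (s : Perm α) x / p < Function.minimalPeriod (s : Perm α) x :=
        Nat.div_lt_self hpos (Fact.out : p.Prime).one_lt
      rw [hhe] at e
      have := (Function.iterate_eq_iterate_iff_of_lt_minimalPeriod hlt hpos).mp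
        (e.trans (Function.iterate_zero_apply _ x).symm)
      exact (Nat.div_pos (Nat.le_of_dvd hpos hd) (Fact.out : p.Prime).pos).ne' this
    obtain ⟨hcyc, hco⟩ := cycleOf_pow_card_cycle hh hhx
    set u := h.cycleOf x with hu
    have huA : u ∈ alternatingGroup α :=
      mem_alternating_of_pow_eq_one hp (k := 1) (by rw [pow_one, ← hco, pow_orderOf_eq_one])
    have huQ : u ∈ Q := hEQ u (cycleOf_spec h x).1 (cycleOf_spec h x).2
    have huC : InC T (⟨u, huA⟩ : alternatingGroup α) :=
      inC_of_cycleType hp hn hT hT1 (cycleType_of_order_eq hco (by rw [← hcyc.orderOf, hco]))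
    obtain ⟨j, hj⟩ := hQ ⟨_, Q.mul_mem hsQ (Q.inv_mem huQ)⟩
    have hlt := orbitPairs_lt Fact.out hs' hh hhe (cycleOf_spec h x).2 hx fun _ _ => rfl
    have hrest : InC T (s * ⟨u, huA⟩⁻¹) :=
      ih j _ (lt_of_lt_of_le hlt (Nat.lt_succ_iff.mp hN)) (Subtype.ext (by simpa using congrArg Subtype.val hj))
    have := hrest.mul hT huC (Q.comap (alternatingGroup α).subtype)
      (hQ.comap_of_injective _ (alternatingGroup α).subtype_injective)
      (show (s : Perm α) * u⁻¹ ∈ Q from Q.mul_mem hsQ (Q.inv_mem huQ)) huQ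
    rwa [inv_mul_cancel_right] at this

end CfsgLib.FusionAlt
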