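import Cfsg.Agent.Lib.FusionAlt.AltClosed
import Cfsg.Agent.Lib.FusionAlt.AltBlocks

/-!
For odd `p` the fusion systems of alternating groups are simple.
-/

set_option autoImplicit false

namespace CfsgLib.FusionAlt

open Cfsg Cfsg.FusionSystem CfsgLib.Fusion CfsgLib.FusionSimple Equiv Equiv.Perm

variable {α : Type*} [Fintype α] [DecidableEq α] {q p : ℕ} [Fact p.Prime]

/-- The unit vector of a block. -/
def unitVec (i : Fin q) : Fin q → ZMod p := Pi.single i 1

/-- The blockwise translations as a subgroup. -/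
def shGroup (q p : ℕ) [Fact p.Prime] : Subgroup (Perm (Fin q × ZMod p)) where
  carrier := Set.range sh
  one_mem' := ⟨0, sh_zero⟩
  mul_mem' := by rintro _ _ ⟨b, rfl⟩ ⟨c, rfl⟩; exact ⟨b + c, sh_add b c⟩
  inv_mem' := by rintro _ ⟨b, rfl⟩; exact ⟨-b, (sh_inv b).symm⟩

theorem pow_eq_one_eq_one_of_card_lt {σ : Perm α} {k : ℕ} (h : σ ^ p ^ k = 1) (hs : σ.support.card < p) :
    σ = 1 := by
  by_contra hne
  obtain ⟨m, hm⟩ := Multiset.exists_mem_of_ne_zero (fun e => hne (cycleType_eq_zero.mp e) : σ.cycleType ≠ 0)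
  obtain ⟨j, -, hj⟩ := (Nat.dvd_prime_pow Fact.out).mp ((dvd_of_mem_cycleType hm).trans (orderOf_dvd_of_pow_eq_one h))
  have h2 := two_le_of_mem_cycleType hm
  have hle : m ≤ σ.support.card := sum_cycleType σ ▸ Multiset.single_le_sum (fun x _ => Nat.zero_le x) m hm
  rcases Nat.eq_zero_or_pos j with rfl | hj0
  · simp at hj; omega
  · have : p ≤ m := hj ▸ Nat.le_self_pow hj0.ne' p
    omega

theorem sh_unit_support (i : Fin q) (j : Fin q) (x : ZMod p) :
    sh (unitVec (p := p) i) (j, x) = if j = i then (i, x + 1) else (j, x) := by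
  rw [sh_apply, unitVec]
  by_cases h : j = i
  · subst h; simp
  · simp [h]

section Embedded

variable (e : Fin q × ZMod p ↪ α)

theorem via_apply (σ : Perm (Fin q × ZMod p)) (z : Fin q × ZMod p) :
    viaEmbeddingHom e σ (e z) = e (σ z) := viaEmbedding_apply σ e z

theorem via_apply_of_notMem (σ : Perm (Fin q × ZMod p)) {a : α} (h : a ∉ Set.range e) :
    viaEmbeddingHom e σ a = a := viaEmbedding_apply_of_notMem σ e a h

/-- The image of a group of block permutations in the alternating group. -/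
noncomputable def altImage (X : Subgroup (Perm (Fin q × ZMod p))) : Subgroup (alternatingGroup α) :=
  (X.map (viaEmbeddingHom e)).subgroupOf (alternatingGroup α)

omit [Fact p.Prime] in
theorem mem_altImage {X : Subgroup (Perm (Fin q × ZMod p))} {g : alternatingGroup α} :
    g ∈ altImage e X ↔ ∃ σ ∈ X, viaEmbeddingHom e σ = g := Iff.rfl

theorem exists_alt_of_pow (hp : p ≠ 2) {σ : Perm (Fin q × ZMod p)} {k : ℕ} (h : σ ^ p ^ k = 1) :
    ∃ g : alternatingGroup α, (g : Perm α) = viaEmbeddingHom e σ :=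
  ⟨⟨_, mem_alternating_of_pow_eq_one hp (k := k) (by rw [← map_pow, h, map_one])⟩, rfl⟩

theorem via_sh_unit_support (i : Fin q) :
    (viaEmbeddingHom e (sh (unitVec (p := p) i))).support.card ≤ p := by
  refine le_trans (Finset.card_le_card (t := Finset.univ.image fun x : ZMod p => e (i, x)) ?_) ?_
  · intro a ha
    rw [mem_support] at ha
    by_cases har : a ∈ Set.range e
    · obtain ⟨⟨j, x⟩, rfl⟩ := har
      rw [via_apply, sh_unit_support] at ha
      by_cases hj : j = i
      · subst hj; exact Finset.mem_image.mpr ⟨x, Finset.mem_univ _, rfl⟩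
      · rw [if_neg hj] at ha; exact absurd rfl ha
    · exact absurd (via_apply_of_notMem e _ har) ha
  · refine Finset.card_image_le.trans ?_
    rw [Finset.card_univ, ZMod.card]

theorem range_invariant_of_commute {g : Perm α} {X : Set (Perm (Fin q × ZMod p))}
    (hmove : ∀ z, ∃ σ ∈ X, σ z ≠ z)
    (hg : ∀ σ ∈ X, ∃ τ : Perm (Fin q × ZMod p), g * viaEmbeddingHom e σ * g⁻¹ = viaEmbeddingHom e τ)
    (z : Fin q × ZMod p) : g (e z) ∈ Set.range e := by
  obtain ⟨σ, hσ, hne⟩ := hmove z
  obtain ⟨τ, hτ⟩ := hg σ hσ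
  by_contra hr
  have := via_apply_of_notMem e τ hr
  rw [← hτ] at this
  simp only [Perm.mul_apply, Perm.coe_inv, Equiv.symm_apply_apply, via_apply, EmbeddingLike.apply_eq_iff_eq] at this
  exact hne this

/-- The restriction of a permutation preserving the embedded points. -/
theorem exists_restrict {g : Perm α} (hg : ∀ z, g (e z) ∈ Set.range e) :
    ∃ τ : Perm (Fin q × ZMod p), ∀ z, g (e z) = e (τ z) := by
  choose f hf using hg
  have hinj : Function.Injective f := fun a b hab => e.injective (g.injective (by rw [← hf, ← hf, hab]))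
  exact ⟨Equiv.ofBijective f hinj.bijective_of_finite, fun z => (hf z).symm⟩

theorem eq_via {g : Perm α} (hcard : Fintype.card α ≤ q * p + 1) {τ : Perm (Fin q × ZMod p)}
    (hg : ∀ z, g (e z) = e (τ z)) : g = viaEmbeddingHom e τ := by
  refine Perm.ext fun a => ?_
  by_cases ha : a ∈ Set.range e
  · obtain ⟨z, rfl⟩ := ha
    rw [hg, via_apply]
  · rw [via_apply_of_notMem e τ ha]
    by_contra hne
    have hga : g a ∉ Set.range e := by
      rintro ⟨z, hz⟩
      obtain ⟨w, rfl⟩ := τ.surjective z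
      rw [← hg] at hz
      exact ha ⟨w, g.injective hz⟩
    have h1 : ({g a, a} : Finset α).card = 2 := Finset.card_pair hne
    have h2 : (Finset.univ.image e ∪ {g a, a}).card = q * p + 2 := by
      rw [Finset.card_union_of_disjoint, Finset.card_image_of_injective _ e.injective, h1]
      · simp [Fintype.card_prod]
      · rw [Finset.disjoint_right]
        intro x hx hx'
        obtain ⟨z, -, rfl⟩ := Finset.mem_image.mp hx'
        simp only [Finset.mem_insert, Finset.mem_singleton] at hx
        rcases hx with h | h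
        · exact hga ⟨z, h⟩
        · exact ha ⟨z, h⟩
    have := (Finset.card_le_univ (Finset.univ.image e ∪ {g a, a})).trans hcard
    omega

end Embedded

/-- A permutation normalizing the translations is affine on every block. -/
theorem isMon_of_normalizes {σ : Perm (Fin q × ZMod p)}
    (h : ∀ b, ∃ c, σ * sh b * σ⁻¹ = sh c) : IsMon σ := by
  have hstep : ∀ i, ∃ (j : Fin q) (s : ZMod p), ∀ x, σ (i, x) = (j, (σ (i, 0)).2 + s * x) := by
    intro i
    obtain ⟨c, hc⟩ := h (unitVec i)
    rw [mul_inv_eq_iff_eq_mul] at hc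
    refine ⟨(σ (i, 0)).1, c (σ (i, 0)).1, fun x => ?_⟩
    obtain ⟨m, rfl⟩ := ZMod.natCast_zmod_surjective x
    induction m with
    | zero => simp
    | succ m ih =>
      have h1 : σ (sh (unitVec i) (i, (m : ZMod p))) = sh c (σ (i, (m : ZMod p))) :=
        congrArg (fun f : Perm (Fin q × ZMod p) => f (i, (m : ZMod p))) hc
      rw [sh_unit_support, if_pos rfl, ih, sh_apply] at h1
      push_cast
      rw [h1]
      ring_nf
  choose π s hs using hstep
  have hs0 : ∀ i, s i ≠ 0 := by
    intro i h0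
    have h1 : σ (i, 1) = σ (i, 0) := (hs i 1).trans (by rw [h0, zero_mul]; exact ((hs i 0).trans (by rw [h0, zero_mul])).symm)
    have := congrArg Prod.snd (σ.injective h1)
    exact one_ne_zero this
  have hπ : Function.Injective π := by
    intro i j hij
    have h1 : σ (i, ((σ (j, 0)).2 - (σ (i, 0)).2) / s i) = σ (j, 0) := by
      rw [hs i, hs j 0, hij, mul_div_cancel₀ _ (hs0 i)]
      simp
    exact congrArg Prod.fst (σ.injective h1)
  refine ⟨Equiv.ofBijective π hπ.bijective_of_finite, fun i => Units.mk0 (s i) (hs0 i),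
    fun i => (σ (i, 0)).2, fun i x => ?_⟩
  rw [hs i x, Equiv.ofBijective_apply, Units.val_mk0, add_comm]

/-! ### The grid -/

section Grid

variable (hpq : p ≤ q)

/-- The first `p` blocks as a square. -/
def gridEmb (hpq : p ≤ q) : ZMod p × ZMod p ↪ Fin q × ZMod p where
  toFun z := (⟨z.1.val, (ZMod.val_lt z.1).trans_le hpq⟩, z.2)
  inj' a b h := by
    simp only [Prod.mk.injEq, Fin.mk.injEq] at h
    exact Prod.ext (ZMod.val_injective p h.1) h.2

theorem gridEmb_surj {i : Fin q} (hi : i.val < p) (x : ZMod p) :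
    gridEmb hpq ((i.val : ZMod p), x) = (i, x) :=
  Prod.ext (Fin.ext (ZMod.val_natCast_of_lt hi)) rfl

theorem gridEmb_fst_lt (z : ZMod p × ZMod p) : (gridEmb hpq z).1.val < p := ZMod.val_lt z.1

theorem notMem_grid {i : Fin q} (hi : ¬ i.val < p) (x : ZMod p) : (i, x) ∉ Set.range (gridEmb hpq) := by
  rintro ⟨z, hz⟩
  have e : (gridEmb hpq z).1 = i := congrArg Prod.fst hz
  exact hi (e ▸ gridEmb_fst_lt hpq z)

/-- Translations of the square. -/
def trans2 (c e : ZMod p) : Perm (ZMod p × ZMod p) := (Equiv.addRight c).prodCongr (Equiv.addRight e)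

@[simp] theorem trans2_apply (c e i x : ZMod p) : trans2 c e (i, x) = (i + c, x + e) := rfl

theorem trans2_pow (c e : ZMod p) (m : ℕ) : trans2 c e ^ m = trans2 (m • c) (m • e) := by
  induction m with
  | zero => refine Perm.ext fun ⟨i, x⟩ => ?_; simp
  | succ m ih =>
    refine Perm.ext fun ⟨i, x⟩ => ?_
    rw [pow_succ', Perm.mul_apply, ih]
    simp only [trans2_apply, Prod.mk.injEq, succ_nsmul]
    exact ⟨by ring, by ring⟩

theorem trans2_pow_p (c e : ZMod p) : trans2 c e ^ p = 1 := by
  rw [trans2_pow]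
  refine Perm.ext fun ⟨i, x⟩ => ?_
  simp

/-- Upper transvections of the square. -/
def upT (k : ZMod p) : Perm (ZMod p × ZMod p) := prodCongrRight fun i => Equiv.addRight (k * i)

/-- Lower transvections of the square. -/
def lowT (k : ZMod p) : Perm (ZMod p × ZMod p) :=
  (Equiv.prodComm (ZMod p) (ZMod p)).permCongr (upT k)

@[simp] theorem upT_apply (k i x : ZMod p) : upT k (i, x) = (i, x + k * i) := rfl

@[simp] theorem lowT_apply (k i x : ZMod p) : lowT k (i, x) = (i + k * x, x) := rfl

theorem upT_pow (k : ZMod p) (m : ℕ) : upT k ^ m = upT (m • k) := by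
  induction m with
  | zero => refine Perm.ext fun ⟨i, x⟩ => ?_; simp
  | succ m ih =>
    refine Perm.ext fun ⟨i, x⟩ => ?_
    rw [pow_succ', Perm.mul_apply, ih]
    simp [succ_nsmul, add_mul, add_assoc]

theorem upT_pow_p (k : ZMod p) : upT k ^ p = 1 := by
  rw [upT_pow]
  refine Perm.ext fun ⟨i, x⟩ => ?_
  simp

theorem lowT_pow_p (k : ZMod p) : lowT k ^ p = 1 := by
  rw [lowT, show ∀ (σ : Perm (ZMod p × ZMod p)) (m : ℕ),
    (Equiv.prodComm (ZMod p) (ZMod p)).permCongr σ ^ m = (Equiv.prodComm (ZMod p) (ZMod p)).permCongr (σ ^ m) from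
      fun σ m => by
        induction m with
        | zero => exact Perm.ext fun z => by simp
        | succ m ih => rw [pow_succ, ih, pow_succ]; exact Perm.ext fun z => by simp,
    upT_pow_p]
  exact Perm.ext fun z => by simp

/-- The diagonal element. -/
def diag2 (a : (ZMod p)ˣ) : Perm (ZMod p × ZMod p) :=
  (Units.mulLeft a).prodCongr (Units.mulLeft a⁻¹)

@[simp] theorem diag2_apply (a : (ZMod p)ˣ) (i x : ZMod p) :
    diag2 a (i, x) = ((a : ZMod p) * i, ((a⁻¹ : (ZMod p)ˣ) : ZMod p) * x) := rfl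

theorem diag2_eq (a : (ZMod p)ˣ) :
    diag2 a = (upT 1 * lowT (-1) * upT 1) *
      (upT (-(a : ZMod p)) * lowT (((a⁻¹ : (ZMod p)ˣ) : ZMod p)) * upT (-(a : ZMod p))) := by
  refine Perm.ext fun ⟨i, x⟩ => ?_
  simp only [Perm.mul_apply, upT_apply, lowT_apply, diag2_apply, Prod.mk.injEq]
  have h : (a : ZMod p) * ((a⁻¹ : (ZMod p)ˣ) : ZMod p) = 1 := Units.mul_inv a
  constructor
  · linear_combination ((a : ZMod p) * i - x) * h
  · linear_combination i * h

end Grid

end CfsgLib.FusionAlt
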