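import Cfsg.Agent.Lib.FusionAlt.AltOdd

/-!
For odd `p` with at most one point outside the blocks the fusion system is simple.
-/

set_option autoImplicit false

namespace CfsgLib.FusionAlt

open Cfsg Cfsg.FusionSystem CfsgLib.Fusion CfsgLib.FusionSimple Equiv Equiv.Perm

variable {α : Type*} [Fintype α] [DecidableEq α] {q p : ℕ} [Fact p.Prime] (hpq : p ≤ q)

/-- Permutations of the square inside the blocks. -/
noncomputable def gridHom : Perm (ZMod p × ZMod p) →* Perm (Fin q × ZMod p) :=
  viaEmbeddingHom (gridEmb hpq)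

theorem gridHom_apply (σ : Perm (ZMod p × ZMod p)) (z : ZMod p × ZMod p) :
    gridHom hpq σ (gridEmb hpq z) = gridEmb hpq (σ z) := viaEmbedding_apply σ (gridEmb hpq) z

theorem gridHom_outer (σ : Perm (ZMod p × ZMod p)) {i : Fin q} (hi : ¬ i.val < p) (x : ZMod p) :
    gridHom hpq σ (i, x) = (i, x) :=
  viaEmbedding_apply_of_notMem σ (gridEmb hpq) _ (notMem_grid hpq hi x)

/-- The first `p` blocks. -/
def blockEmb : ZMod p ↪ Fin q where
  toFun c := ⟨c.val, (ZMod.val_lt c).trans_le hpq⟩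
  inj' a b h := ZMod.val_injective p (Fin.mk.inj_iff.mp h)

theorem gridHom_affine (σ : Perm (ZMod p × ZMod p)) (f : Perm (ZMod p)) (t : (ZMod p)ˣ) (e : ZMod p)
    (h : ∀ c x, σ (c, x) = (f c, (t : ZMod p) * x + e)) :
    ∀ i x, gridHom hpq σ (i, x) = (viaEmbeddingHom (blockEmb hpq) f i,
      ((if i.val < p then t else 1 : (ZMod p)ˣ) : ZMod p) * x + (if i.val < p then e else 0)) := by
  intro i x
  by_cases hi : i.val < p
  · rw [if_pos hi, if_pos hi, ← gridEmb_surj hpq hi x, gridHom_apply, h]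
    have hb : blockEmb hpq ((i.val : ZMod p)) = i := Fin.ext (ZMod.val_natCast_of_lt hi)
    have h1 : viaEmbeddingHom (blockEmb hpq) f i = blockEmb hpq (f (i.val : ZMod p)) := by
      conv_lhs => rw [← hb]
      exact viaEmbedding_apply f (blockEmb hpq) _
    exact Prod.ext h1.symm rfl
  · rw [if_neg hi, if_neg hi, gridHom_outer hpq σ hi]
    have h1 : viaEmbeddingHom (blockEmb hpq) f i = i := by
      refine viaEmbedding_apply_of_notMem f (blockEmb hpq) i ?_
      rintro ⟨c, rfl⟩
      exact hi (ZMod.val_lt c)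
    rw [h1, Units.val_one, one_mul, add_zero]

theorem isMon_gridHom (σ : Perm (ZMod p × ZMod p)) (f : Perm (ZMod p)) (t : (ZMod p)ˣ) (e : ZMod p)
    (h : ∀ c x, σ (c, x) = (f c, (t : ZMod p) * x + e)) : IsMon (gridHom hpq σ) :=
  ⟨_, _, _, gridHom_affine hpq σ f t e h⟩

/-- The translations of the square. -/
def transGroup (p : ℕ) [Fact p.Prime] : Subgroup (Perm (ZMod p × ZMod p)) where
  carrier := Set.range fun z : ZMod p × ZMod p => trans2 z.1 z.2
  one_mem' := ⟨0, Perm.ext fun ⟨i, x⟩ => by simp⟩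
  mul_mem' := by
    rintro _ _ ⟨a, rfl⟩ ⟨b, rfl⟩
    exact ⟨a + b, Perm.ext fun ⟨i, x⟩ => by simp [add_comm, add_left_comm]⟩
  inv_mem' := by
    rintro _ ⟨a, rfl⟩
    refine ⟨-a, ?_⟩
    rw [eq_comm, inv_eq_iff_mul_eq_one]
    exact Perm.ext fun ⟨i, x⟩ => by simp

/-- The translations of the blocks outside the square. -/
def outerGroup (q p : ℕ) [Fact p.Prime] : Subgroup (Perm (Fin q × ZMod p)) where
  carrier := {σ | ∃ b : Fin q → ZMod p, (∀ i : Fin q, i.val < p → b i = 0) ∧ sh b = σ}
  one_mem' := ⟨0, fun _ _ => rfl, sh_zero⟩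
  mul_mem' := by
    rintro _ _ ⟨b, hb, rfl⟩ ⟨c, hc, rfl⟩
    exact ⟨b + c, fun i hi => by simp [hb i hi, hc i hi], sh_add b c⟩
  inv_mem' := by
    rintro _ ⟨b, hb, rfl⟩
    exact ⟨-b, fun i hi => by simp [hb i hi], (sh_inv b).symm⟩

/-- The regular square times the translations outside. -/
noncomputable def squareGroup : Subgroup (Perm (Fin q × ZMod p)) :=
  outerGroup q p ⊔ (transGroup p).map (gridHom hpq)

/-- The translations together with the regular square. -/
noncomputable def bigGroup : Subgroup (Perm (Fin q × ZMod p)) :=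
  shGroup q p ⊔ (transGroup p).map (gridHom hpq)

theorem outer_le : outerGroup q p ≤ shGroup q p := by
  rintro _ ⟨b, -, rfl⟩; exact ⟨b, rfl⟩

theorem square_le_big : squareGroup hpq ≤ bigGroup hpq := sup_le_sup_right outer_le _

theorem isMon_trans (z : ZMod p × ZMod p) : IsMon (gridHom hpq (trans2 z.1 z.2)) :=
  isMon_gridHom hpq _ (Equiv.addRight z.1) 1 z.2 fun c x => by simp

theorem mem_normalizer_of_forall {G : Type*} [Group G] [Finite G] {H : Subgroup G} {g : G}
    (h : ∀ x ∈ H, g * x * g⁻¹ ∈ H) : g ∈ Subgroup.normalizer (H : Set G) := by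
  have hle : H.map (MulAut.conj g).toMonoidHom ≤ H := by
    rintro _ ⟨x, hx, rfl⟩; exact h x hx
  have heq : H.map (MulAut.conj g).toMonoidHom = H :=
    eq_of_le_of_card_le hle (Subgroup.card_map_of_injective (MulAut.conj g).injective).ge
  refine Subgroup.mem_normalizer_iff.mpr fun x => ⟨h x, fun hx => ?_⟩
  obtain ⟨y, hy, he⟩ := heq.ge hx
  rwa [← (MulAut.conj g).injective he]

theorem mon_normalizes_shGroup {σ : Perm (Fin q × ZMod p)} (h : IsMon σ) :
    σ ∈ Subgroup.normalizer (shGroup q p : Set (Perm (Fin q × ZMod p))) := by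
  refine mem_normalizer_of_forall ?_
  rintro _ ⟨b, rfl⟩
  obtain ⟨c, hc⟩ := h.conj_sh b
  exact ⟨c, hc.symm⟩

theorem isPGroup_bigGroup : IsPGroup p (bigGroup hpq) := by
  refine IsPGroup.to_sup_of_normal_left' ?_ ?_ ?_
  · rintro ⟨_, b, rfl⟩
    exact ⟨1, Subtype.ext (by rw [SubgroupClass.coe_pow, pow_one]; exact sh_pow_p b)⟩
  · rintro ⟨_, _, ⟨z, rfl⟩, rfl⟩
    refine ⟨1, Subtype.ext ?_⟩
    rw [SubgroupClass.coe_pow, pow_one]
    show gridHom hpq (trans2 z.1 z.2) ^ p = 1
    rw [← map_pow, trans2_pow_p, map_one]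
  · rintro _ ⟨_, ⟨z, rfl⟩, rfl⟩
    exact mon_normalizes_shGroup (isMon_trans hpq z)

theorem gridHom_commute_outer (σ : Perm (ZMod p × ZMod p)) {b : Fin q → ZMod p}
    (hb : ∀ i : Fin q, i.val < p → b i = 0) : Commute (gridHom hpq σ) (sh b) := by
  refine Perm.ext fun ⟨i, x⟩ => ?_
  rw [Perm.mul_apply, Perm.mul_apply, sh_apply]
  by_cases hi : i.val < p
  · rw [hb i hi, add_zero, ← gridEmb_surj hpq hi x, gridHom_apply]
    generalize σ ((i.val : ZMod p), x) = w
    rw [show gridEmb hpq w = ((gridEmb hpq w).1, (gridEmb hpq w).2) from rfl, sh_apply,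
      hb _ (gridEmb_fst_lt hpq w), add_zero]
  · rw [gridHom_outer hpq σ hi, gridHom_outer hpq σ hi, sh_apply]

theorem grid_normalizes_square {σ : Perm (ZMod p × ZMod p)}
    (h : ∀ z : ZMod p × ZMod p, ∃ w : ZMod p × ZMod p, σ * trans2 z.1 z.2 * σ⁻¹ = trans2 w.1 w.2) :
    gridHom hpq σ ∈ Subgroup.normalizer (squareGroup hpq : Set (Perm (Fin q × ZMod p))) := by
  refine mem_normalizer_of_forall ?_
  suffices squareGroup hpq ≤ (squareGroup hpq).comap (MulAut.conj (gridHom hpq σ)).toMonoidHom from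
    fun x hx => this hx
  refine sup_le ?_ ?_
  · rintro _ ⟨b, hb, rfl⟩
    show gridHom hpq σ * sh b * (gridHom hpq σ)⁻¹ ∈ squareGroup hpq
    rw [(gridHom_commute_outer hpq σ hb).eq, mul_inv_cancel_right]
    exact Subgroup.mem_sup_left ⟨b, hb, rfl⟩
  · rintro _ ⟨_, ⟨z, rfl⟩, rfl⟩
    obtain ⟨w, hw⟩ := h z
    refine Subgroup.mem_sup_right ⟨trans2 w.1 w.2, ⟨w, rfl⟩, ?_⟩
    rw [← hw, map_mul, map_mul, map_inv]
    rfl

theorem upT_conj (k : ZMod p) (z : ZMod p × ZMod p) :
    ∃ w : ZMod p × ZMod p, upT k * trans2 z.1 z.2 * (upT k)⁻¹ = trans2 w.1 w.2 := by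
  refine ⟨(z.1, z.2 + k * z.1), ?_⟩
  rw [mul_inv_eq_iff_eq_mul]
  refine Perm.ext fun ⟨i, x⟩ => ?_
  simp only [Perm.mul_apply, upT_apply, trans2_apply, Prod.mk.injEq, true_and]
  ring

theorem lowT_conj (k : ZMod p) (z : ZMod p × ZMod p) :
    ∃ w : ZMod p × ZMod p, lowT k * trans2 z.1 z.2 * (lowT k)⁻¹ = trans2 w.1 w.2 := by
  refine ⟨(z.1 + k * z.2, z.2), ?_⟩
  rw [mul_inv_eq_iff_eq_mul]
  refine Perm.ext fun ⟨i, x⟩ => ?_
  simp only [Perm.mul_apply, lowT_apply, trans2_apply, Prod.mk.injEq, and_true]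
  ring

theorem commute_shGroup {τ : Perm (Fin q × ZMod p)} (h : ∀ b, Commute τ (sh b)) : τ ∈ shGroup q p := by
  refine ⟨fun i => (τ (i, 0)).2, Perm.ext fun ⟨i, x⟩ => ?_⟩
  have hblock : (τ (i, 0)).1 = i := by
    by_contra hne
    have h1 : τ (sh (unitVec i) (i, 0)) = sh (unitVec i) (τ (i, 0)) :=
      congrArg (fun f : Perm (Fin q × ZMod p) => f (i, 0)) (h (unitVec i)).eq
    rw [sh_unit_support, if_pos rfl, show τ (i, (0 : ZMod p)) = ((τ (i, 0)).1, (τ (i, 0)).2) from rfl,
      sh_unit_support, if_neg hne, zero_add] at h1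
    exact one_ne_zero (congrArg Prod.snd (τ.injective h1))
  have h2 : τ (sh (fun j => if j = i then x else 0) (i, 0)) = sh (fun j => if j = i then x else 0) (τ (i, 0)) :=
    congrArg (fun f : Perm (Fin q × ZMod p) => f (i, 0)) (h fun j => if j = i then x else 0).eq
  rw [sh_apply, if_pos rfl, zero_add] at h2
  rw [sh_apply, h2, show τ (i, (0 : ZMod p)) = ((τ (i, 0)).1, (τ (i, 0)).2) from rfl, sh_apply, hblock,
    if_pos rfl, add_comm]

theorem commute_square {τ : Perm (Fin q × ZMod p)}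
    (h : ∀ σ ∈ squareGroup hpq, Commute τ σ) : τ ∈ squareGroup hpq := by
  -- outside the square every block is translated
  have houter : ∀ i : Fin q, ¬ i.val < p → ∀ x, τ (i, x) = (i, x + (τ (i, 0)).2) := by
    intro i hi
    have hb : ∀ y : ZMod p, sh (fun j => if j = i then y else 0) ∈ squareGroup hpq := fun y =>
      Subgroup.mem_sup_left ⟨_, fun j hj => if_neg fun (e : j = i) => hi (e ▸ hj), rfl⟩
    have hblock : (τ (i, 0)).1 = i := by
      by_contra hne
      have h1 : τ (sh (fun j => if j = i then (1 : ZMod p) else 0) (i, 0)) =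
          sh (fun j => if j = i then (1 : ZMod p) else 0) (τ (i, 0)) :=
        congrArg (fun f : Perm (Fin q × ZMod p) => f (i, 0)) (h _ (hb 1)).eq
      rw [sh_apply, if_pos rfl, zero_add,
        show τ (i, (0 : ZMod p)) = ((τ (i, 0)).1, (τ (i, 0)).2) from rfl, sh_apply, if_neg hne,
        add_zero] at h1
      exact one_ne_zero (congrArg Prod.snd (τ.injective h1))
    intro x
    have h1 : τ (sh (fun j => if j = i then x else 0) (i, 0)) = sh (fun j => if j = i then x else 0) (τ (i, 0)) :=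
      congrArg (fun f : Perm (Fin q × ZMod p) => f (i, 0)) (h _ (hb x)).eq
    rw [sh_apply, if_pos rfl, zero_add] at h1
    rw [h1, show τ (i, (0 : ZMod p)) = ((τ (i, 0)).1, (τ (i, 0)).2) from rfl, sh_apply, hblock, if_pos rfl,
      add_comm]
  -- the square
  have hgrid : ∀ z, ∃ w, τ (gridEmb hpq z) = gridEmb hpq w := by
    intro z
    obtain ⟨⟨i, x⟩, hz⟩ : ∃ v, τ (gridEmb hpq z) = v := ⟨_, rfl⟩
    rw [hz]
    by_cases hi : i.val < p
    · exact ⟨_, (gridEmb_surj hpq hi x).symm⟩
    · exfalso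
      have h1 := houter i hi (x - (τ (i, 0)).2)
      rw [sub_add_cancel, ← hz] at h1
      exact notMem_grid hpq hi _ ⟨z, (τ.injective h1).symm⟩
  obtain ⟨w0, hw0⟩ := hgrid (0, 0)
  have hfac : τ = sh (fun i => if i.val < p then 0 else (τ (i, 0)).2) * gridHom hpq (trans2 w0.1 w0.2) := by
    refine Perm.ext fun ⟨i, x⟩ => ?_
    rw [Perm.mul_apply]
    by_cases hi : i.val < p
    · have hm : gridHom hpq (trans2 (i.val : ZMod p) x) ∈ squareGroup hpq :=
        Subgroup.mem_sup_right ⟨_, ⟨((i.val : ZMod p), x), rfl⟩, rfl⟩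
      have h1 : τ (gridHom hpq (trans2 (i.val : ZMod p) x) (gridEmb hpq (0, 0))) =
          gridHom hpq (trans2 (i.val : ZMod p) x) (τ (gridEmb hpq (0, 0))) :=
        congrArg (fun f : Perm (Fin q × ZMod p) => f (gridEmb hpq (0, 0))) (h _ hm).eq
      rw [hw0, gridHom_apply, gridHom_apply, trans2_apply, zero_add, zero_add, gridEmb_surj hpq hi x,
        show w0 = (w0.1, w0.2) from rfl, trans2_apply] at h1
      rw [h1, ← gridEmb_surj hpq hi x, gridHom_apply, trans2_apply, add_comm (i.val : ZMod p), add_comm x]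
      generalize (w0.1 + (i.val : ZMod p), w0.2 + x) = w
      rw [show gridEmb hpq w = ((gridEmb hpq w).1, (gridEmb hpq w).2) from rfl, sh_apply,
        if_pos (gridEmb_fst_lt hpq w), add_zero]
    · rw [gridHom_outer hpq _ hi, sh_apply, if_neg hi]
      exact houter i hi x
  rw [hfac]
  exact Subgroup.mul_mem _ (Subgroup.mem_sup_left ⟨_, fun i hi => if_pos hi, rfl⟩)
    (Subgroup.mem_sup_right ⟨_, ⟨w0, rfl⟩, rfl⟩)

section Main

variable (e : Fin q × ZMod p ↪ α)

theorem alt_of_isPGroup (hp : p ≠ 2) {X : Subgroup (Perm (Fin q × ZMod p))} (hX : IsPGroup p X)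
    {σ : Perm (Fin q × ZMod p)} (hσ : σ ∈ X) :
    ∃ g : alternatingGroup α, (g : Perm α) = viaEmbeddingHom e σ := by
  obtain ⟨k, hk⟩ := hX ⟨σ, hσ⟩
  exact exists_alt_of_pow e hp (k := k) (congrArg Subtype.val hk)

theorem centralizer_altImage_le (hp : p ≠ 2) (hcard : Fintype.card α ≤ q * p + 1)
    {X : Subgroup (Perm (Fin q × ZMod p))} (hX : IsPGroup p X) (hmove : ∀ z, ∃ σ ∈ X, σ z ≠ z)
    (hcent : ∀ τ, (∀ σ ∈ X, Commute τ σ) → τ ∈ X) :
    Subgroup.centralizer (altImage e X : Set (alternatingGroup α)) ≤ altImage e X := by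
  intro g hg
  have hc : ∀ σ ∈ X, Commute (g : Perm α) (viaEmbeddingHom e σ) := by
    intro σ hσ
    obtain ⟨u, hu⟩ := alt_of_isPGroup e hp hX hσ
    have := congrArg Subtype.val (hg u ((mem_altImage e).mpr ⟨σ, hσ, hu.symm⟩))
    rw [← hu]
    exact this.symm
  obtain ⟨τ, hτ⟩ := exists_restrict e (range_invariant_of_commute e (X := (X : Set _)) hmove
    fun σ hσ => ⟨σ, by rw [(hc σ hσ).eq, mul_inv_cancel_right]⟩)
  have hge := eq_via e hcard hτ
  refine (mem_altImage e).mpr ⟨τ, hcent τ fun σ hσ => ?_, hge.symm⟩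
  have := hc σ hσ
  rw [hge] at this
  exact viaEmbeddingHom_injective e (by rw [map_mul, map_mul]; exact this.eq)

/-- Every `p`-cycle of a `p`-subgroup containing the translations is a translation. -/
theorem pCycle_mem (hcard : Fintype.card α ≤ q * p + 1)
    {S : Subgroup (alternatingGroup α)} (hS : IsPGroup p S) (hE : altImage e (shGroup q p) ≤ S)
    {c : alternatingGroup α} (hcS : c ∈ S) (hc : (c : Perm α).cycleType = {p}) (hp : p ≠ 2) :
    c ∈ altImage e (shGroup q p) := by
  have hsupp : (c : Perm α).support.card = p := by rw [← sum_cycleType, hc]; simp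
  obtain ⟨i, x, hix⟩ : ∃ i x, (c : Perm α) (e (i, x)) ≠ e (i, x) := by
    by_contra hcon
    push Not at hcon
    have hd : Disjoint (c : Perm α).support (Finset.univ.image e) := by
      rw [Finset.disjoint_right]
      intro a ha
      obtain ⟨⟨i, x⟩, -, rfl⟩ := Finset.mem_image.mp ha
      rw [mem_support, not_not]
      exact hcon i x
    have h1 : ((c : Perm α).support ∪ Finset.univ.image e).card = p + q * p := by
      rw [Finset.card_union_of_disjoint hd, hsupp, Finset.card_image_of_injective _ e.injective]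
      simp [Fintype.card_prod]
    have := (Finset.card_le_univ ((c : Perm α).support ∪ Finset.univ.image e)).trans hcard
    have := (Fact.out : p.Prime).two_le
    omega
  obtain ⟨s, hs⟩ := alt_of_isPGroup e hp
    (X := shGroup q p) (by rintro ⟨_, b, rfl⟩; exact ⟨1, Subtype.ext (by rw [SubgroupClass.coe_pow, pow_one]; exact sh_pow_p b)⟩)
    (σ := sh (unitVec i)) ⟨_, rfl⟩
  have hsS : s ∈ S := hE ((mem_altImage e).mpr ⟨_, ⟨_, rfl⟩, hs.symm⟩)
  let B : Finset α := Finset.univ.image fun y : ZMod p => e (i, y)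
  have hBcard : B.card = p := by
    rw [Finset.card_image_of_injective _ (fun a b h => congrArg Prod.snd (e.injective h)),
      Finset.card_univ, ZMod.card]
  -- the group generated by the two cycles
  let H : Subgroup (Perm α) := Subgroup.closure {(c : Perm α), (s : Perm α)}
  have hH : IsPGroup p H := by
    refine (hS.map (alternatingGroup α).subtype).to_le ?_
    rw [Subgroup.closure_le]
    rintro _ (rfl | rfl)
    exacts [⟨c, hcS, rfl⟩, ⟨s, hsS, rfl⟩]
  obtain ⟨O, hO⟩ : ∃ O : Set α, O = MulAction.orbit H (e (i, x)) := ⟨_, rfl⟩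
  have hspow : ∀ m : ℕ, ((s : Perm α) ^ m) (e (i, x)) = e (i, x + m) := by
    intro m
    induction m with
    | zero => simp
    | succ m ih =>
      rw [pow_succ', Perm.mul_apply, ih, hs, via_apply, sh_unit_support, if_pos rfl]
      push_cast
      rw [add_assoc]
  have hBO : (B : Set α) ⊆ O := by
    intro a ha
    obtain ⟨y, -, rfl⟩ := Finset.mem_image.mp (Finset.mem_coe.mp ha)
    obtain ⟨m, hm⟩ := ZMod.natCast_zmod_surjective (y - x)
    rw [hO, MulAction.mem_orbit_iff]
    exact ⟨⟨(s : Perm α), Subgroup.subset_closure (Or.inr rfl)⟩ ^ m, by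
      show ((s : Perm α) ^ m) (e (i, x)) = _
      rw [hspow, hm, add_sub_cancel]⟩
  have hcO : ((c : Perm α).support : Set α) ⊆ O := by
    intro a ha
    have hcyc : (c : Perm α).IsCycle := by
      rw [← card_cycleType_eq_one, hc]; rfl
    obtain ⟨m, hm⟩ := hcyc.exists_pow_eq hix (mem_support.mp (Finset.mem_coe.mp ha))
    rw [hO, MulAction.mem_orbit_iff]
    exact ⟨⟨(c : Perm α), Subgroup.subset_closure (Or.inl rfl)⟩ ^ m, hm⟩
  obtain ⟨U, hU⟩ : ∃ U : Finset α, U = (c : Perm α).support ∪ B := ⟨_, rfl⟩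
  have hUcard : U.card < 2 * p := by
    have h1 : 0 < ((c : Perm α).support ∩ B).card :=
      Finset.card_pos.mpr ⟨e (i, x), Finset.mem_inter.mpr ⟨mem_support.mpr hix,
        Finset.mem_image.mpr ⟨x, Finset.mem_univ _, rfl⟩⟩⟩
    have := Finset.card_union_add_card_inter (c : Perm α).support B
    rw [hU]
    omega
  have hUinv : ∀ h ∈ H, ∀ a, a ∉ U → h a = a := by
    intro h hh
    induction hh using Subgroup.closure_induction with
    | mem g hg =>
      intro a ha
      rw [hU, Finset.mem_union, not_or] at ha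
      rcases hg with rfl | rfl
      · exact notMem_support.mp ha.1
      · by_contra hne
        rw [hs] at hne
        by_cases har : a ∈ Set.range e
        · obtain ⟨⟨j, y⟩, rfl⟩ := har
          rw [via_apply, sh_unit_support] at hne
          by_cases hj : j = i
          · exact ha.2 (hj ▸ Finset.mem_image.mpr ⟨y, Finset.mem_univ _, rfl⟩)
          · rw [if_neg hj] at hne; exact hne rfl
        · exact hne (via_apply_of_notMem e _ har)
    | one => intro a _; rfl
    | mul g h _ _ hg hh => intro a ha; rw [Perm.mul_apply, hh a ha, hg a ha]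
    | inv g _ hg => intro a ha; rw [Perm.inv_eq_iff_eq, hg a ha]
  have hOU : O ⊆ (U : Set α) := by
    intro a ha
    rw [hO] at ha
    obtain ⟨⟨h, hh⟩, rfl⟩ := ha
    by_contra hna
    have h2 : h (h (e (i, x))) = h (e (i, x)) := hUinv h hh _ hna
    have h3 := h.injective h2
    refine hna ?_
    show h (e (i, x)) ∈ (U : Set α)
    rw [h3, Finset.mem_coe, hU]
    exact Finset.mem_union_left _ (mem_support.mpr hix)
  have hOB : O = (B : Set α) := by
    obtain ⟨m, hm⟩ := hH.card_orbit (e (i, x))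
    rw [← hO, Nat.card_coe_set_eq] at hm
    have h1 : p ≤ O.ncard := by
      rw [← hBcard, ← Set.ncard_coe_finset]; exact Set.ncard_le_ncard hBO (Set.toFinite _)
    have h2 : O.ncard < 2 * p :=
      lt_of_le_of_lt ((Set.ncard_le_ncard hOU (Set.toFinite _)).trans (Set.ncard_coe_finset U).le) hUcard
    have hm1 : m = 1 := by
      rcases m with _ | _ | m
      · simp only [pow_zero] at hm; have := (Fact.out : p.Prime).two_le; omega
      · rfl
      · exfalso
        have : 2 * p ≤ p ^ (m + 2) := by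
          calc 2 * p ≤ p * p := Nat.mul_le_mul_right p (Fact.out : p.Prime).two_le
            _ = p ^ 2 := (pow_two p).symm
            _ ≤ p ^ (m + 2) := Nat.pow_le_pow_right (Fact.out : p.Prime).pos (by omega)
        rw [show m + 2 = m + 1 + 1 from rfl] at this
        omega
    refine (Set.eq_of_subset_of_ncard_le hBO ?_ (Set.toFinite _)).symm
    rw [hm, hm1, pow_one, Set.ncard_coe_finset, hBcard]
  have hcB : (c : Perm α).support ⊆ B := fun a ha => Finset.mem_coe.mp (hOB ▸ hcO ha)
  have hcx : (c : Perm α) (e (i, x)) ∈ B :=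
    hcB (apply_mem_support.mpr (mem_support.mpr hix))
  obtain ⟨y, -, hy⟩ := Finset.mem_image.mp hcx
  obtain ⟨m, hm⟩ := ZMod.natCast_zmod_surjective (y - x)
  have hk : ((s : Perm α) ^ m)⁻¹ * (c : Perm α) = 1 := by
    obtain ⟨k, hk⟩ := hH ⟨_, H.mul_mem (H.inv_mem (H.pow_mem (Subgroup.subset_closure (Or.inr rfl)) m))
      (Subgroup.subset_closure (Or.inl rfl))⟩
    refine pow_eq_one_eq_one_of_card_lt (p := p) (k := k) (congrArg Subtype.val hk) ?_
    refine lt_of_le_of_lt (Finset.card_le_card (t := B.erase (e (i, x))) ?_) ?_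
    · intro a ha
      rw [mem_support, Perm.mul_apply, ne_eq, Perm.inv_eq_iff_eq] at ha
      refine Finset.mem_erase.mpr ⟨?_, ?_⟩
      · rintro rfl
        exact ha (by rw [← hy, hspow, hm, add_sub_cancel])
      · by_contra haB
        have h1 : (c : Perm α) a = a := notMem_support.mp fun h => haB (hcB h)
        apply ha
        rw [h1]
        have hfix : (s : Perm α) a = a := by
          rw [hs]
          by_cases har : a ∈ Set.range e
          · obtain ⟨⟨j, y'⟩, rfl⟩ := har
            rw [via_apply, sh_unit_support, if_neg]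
            rintro rfl
            exact haB (Finset.mem_image.mpr ⟨y', Finset.mem_univ _, rfl⟩)
          · exact via_apply_of_notMem e _ har
        exact (pow_apply_eq_self_of_apply_eq_self hfix m).symm
    · rw [Finset.card_erase_of_mem (Finset.mem_image.mpr ⟨x, Finset.mem_univ _, rfl⟩), hBcard]
      exact Nat.sub_lt (Fact.out : p.Prime).pos one_pos
  refine (mem_altImage e).mpr ⟨sh (unitVec i) ^ m, (shGroup q p).pow_mem ⟨_, rfl⟩ m, ?_⟩
  rw [map_pow, ← hs]
  exact (inv_mul_eq_one.mp hk)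

theorem altImage_mono {X Y : Subgroup (Perm (Fin q × ZMod p))} (h : X ≤ Y) : altImage e X ≤ altImage e Y := by
  rintro g ⟨σ, hσ, he⟩
  exact ⟨σ, h hσ, he⟩

theorem sign_via (σ : Perm (Fin q × ZMod p)) : sign (viaEmbeddingHom e σ) = sign σ := by
  induction σ using Perm.swap_induction_on with
  | one => simp
  | swap_mul f x y hxy ih =>
    have hswap : viaEmbeddingHom e (Equiv.swap x y) = Equiv.swap (e x) (e y) := by
      refine Perm.ext fun a => ?_
      by_cases ha : a ∈ Set.range e
      · obtain ⟨z, rfl⟩ := ha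
        rw [via_apply]
        exact e.injective.map_swap x y z
      · rw [via_apply_of_notMem e _ ha, swap_apply_of_ne_of_ne (fun h => ha ⟨x, h.symm⟩)
          (fun h => ha ⟨y, h.symm⟩)]
    rw [map_mul, map_mul, map_mul, ih, hswap, sign_swap hxy, sign_swap (fun h => hxy (e.injective h))]

theorem via_normalizes {X : Subgroup (Perm (Fin q × ZMod p))} {σ : Perm (Fin q × ZMod p)}
    (hσ : σ ∈ Subgroup.normalizer (X : Set (Perm (Fin q × ZMod p)))) {g : alternatingGroup α}
    (hg : (g : Perm α) = viaEmbeddingHom e σ) :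
    g ∈ Subgroup.normalizer (altImage e X : Set (alternatingGroup α)) := by
  refine mem_normalizer_of_forall ?_
  rintro u ⟨τ, hτ, hu⟩
  refine ⟨σ * τ * σ⁻¹, (Subgroup.mem_normalizer_iff.mp hσ τ).mp hτ, ?_⟩
  rw [map_mul, map_mul, map_inv, ← hg, hu]
  rfl

theorem normalizer_inAut (hp : p ≠ 2) (hcard : Fintype.card α ≤ q * p + 1)
    (S : Sylow p (alternatingGroup α)) (hQS : altImage e (bigGroup hpq) ≤ (S : Subgroup (alternatingGroup α)))
    {E : FusionSystem (S : Subgroup (alternatingGroup α))}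
    (hEF : E.IsSubsystemOf (groupFusionSystem (S : Subgroup (alternatingGroup α)))) (hEs : E.IsSaturated p)
    (hel : ∀ R : Subgroup (alternatingGroup α), R ≤ (S : Subgroup (alternatingGroup α)) →
      ∀ g ∈ Subgroup.normalizer (R : Set (alternatingGroup α)), (∃ k : ℕ, g ^ p ^ k = 1) → InAut E R g)
    {g : alternatingGroup α}
    (hg : g ∈ Subgroup.normalizer ((S : Subgroup (alternatingGroup α)) : Set (alternatingGroup α))) :
    InAut E (S : Subgroup (alternatingGroup α)) g := by
  set A := altImage e (shGroup q p) with hA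
  set R := altImage e (squareGroup hpq) with hR
  set Q := altImage e (bigGroup hpq) with hQ
  have hsh : IsPGroup p (shGroup q p) := (isPGroup_bigGroup hpq).to_le le_sup_left
  have hAQ : A ≤ Q := altImage_mono e le_sup_left
  have hRQ : R ≤ Q := altImage_mono e (square_le_big hpq)
  have hAS : A ≤ (S : Subgroup (alternatingGroup α)) := hAQ.trans hQS
  have hAc : (groupFusionSystem (S : Subgroup (alternatingGroup α))).IsCentric A := by
    refine group_isCentric_of_centralizer_le hAS
      (centralizer_altImage_le e hp hcard hsh (fun z => ⟨sh (unitVec z.1), ⟨_, rfl⟩, ?_⟩)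
        fun τ hτ => commute_shGroup fun b => hτ _ ⟨b, rfl⟩)
    obtain ⟨j, x⟩ := z
    rw [sh_unit_support, if_pos rfl]
    intro h
    exact one_ne_zero (add_eq_left.mp (congrArg Prod.snd h) : (1 : ZMod p) = 0)
  have hRc : (groupFusionSystem (S : Subgroup (alternatingGroup α))).IsCentric R := by
    refine group_isCentric_of_centralizer_le (hRQ.trans hQS)
      (centralizer_altImage_le e hp hcard ((isPGroup_bigGroup hpq).to_le (square_le_big hpq))
        (fun z => ?_) fun τ hτ => commute_square hpq hτ)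
    obtain ⟨j, x⟩ := z
    by_cases hj : j.val < p
    · refine ⟨gridHom hpq (trans2 0 1), Subgroup.mem_sup_right ⟨_, ⟨(0, 1), rfl⟩, rfl⟩, ?_⟩
      rw [← gridEmb_surj hpq hj x, gridHom_apply, trans2_apply]
      intro h
      have h2 := congrArg Prod.snd ((gridEmb hpq).injective h)
      exact one_ne_zero (add_eq_left.mp h2 : (1 : ZMod p) = 0)
    · refine ⟨sh (unitVec j), Subgroup.mem_sup_left ⟨_, fun i hi => ?_, rfl⟩, ?_⟩
      · rw [unitVec, Pi.single_eq_of_ne]
        rintro rfl
        exact hj hi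
      · rw [sh_unit_support, if_pos rfl]
        intro h
        exact one_ne_zero (add_eq_left.mp (congrArg Prod.snd h) : (1 : ZMod p) = 0)
  -- the elements of `monP` act on the translations through the system
  have hmonP : ∀ σ ∈ monP q p, ∃ u : alternatingGroup α, (u : Perm α) = viaEmbeddingHom e σ ∧
      u ∈ inAutSubgroup E A := by
    intro σ hσ
    unfold monP at hσ
    induction hσ using Subgroup.closure_induction with
    | mem x hx =>
      obtain ⟨hx, k, hk⟩ := hx
      obtain ⟨u, hu⟩ := exists_alt_of_pow e hp hk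
      refine ⟨u, hu, mem_inAutSubgroup.mpr
        (hel A hAS u (via_normalizes e (mon_normalizes_shGroup hx) hu) ⟨k, ?_⟩)⟩
      apply Subtype.ext
      rw [SubgroupClass.coe_pow, hu, ← map_pow, hk, map_one]
      rfl
    | one => exact ⟨1, (map_one _).symm, one_mem _⟩
    | mul x y _ _ hx hy =>
      obtain ⟨u, hu, hu'⟩ := hx
      obtain ⟨v, hv, hv'⟩ := hy
      exact ⟨u * v, by rw [map_mul, ← hu, ← hv]; rfl, mul_mem hu' hv'⟩
    | inv x _ hx =>
      obtain ⟨u, hu, hu'⟩ := hx
      exact ⟨u⁻¹, by rw [map_inv, ← hu]; rfl, inv_mem hu'⟩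
  -- the diagonal elements
  have hdiag : ∀ a : (ZMod p)ˣ, ∃ u : alternatingGroup α,
      (u : Perm α) = viaEmbeddingHom e (gridHom hpq (diag2 a)) ∧ u ∈ inAutSubgroup E A := by
    intro a
    have hgen : ∀ σ : Perm (ZMod p × ZMod p), σ ^ p = 1 →
        (∀ z : ZMod p × ZMod p, ∃ w : ZMod p × ZMod p, σ * trans2 z.1 z.2 * σ⁻¹ = trans2 w.1 w.2) →
        ∃ u : alternatingGroup α, (u : Perm α) = viaEmbeddingHom e (gridHom hpq σ) ∧
          u ∈ inAutSubgroup E R := by
      intro σ hσ hconj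
      obtain ⟨u, hu⟩ := exists_alt_of_pow e hp (k := 1) (σ := gridHom hpq σ)
        (by rw [pow_one, ← map_pow, hσ, map_one])
      refine ⟨u, hu, mem_inAutSubgroup.mpr
        (hel R (hRQ.trans hQS) u (via_normalizes e (grid_normalizes_square hpq hconj) hu) ⟨1, ?_⟩)⟩
      apply Subtype.ext
      rw [SubgroupClass.coe_pow, hu, pow_one, ← map_pow, ← map_pow, hσ, map_one, map_one]
      rfl
    obtain ⟨u1, hu1, hu1'⟩ := hgen (upT 1) (upT_pow_p 1) (upT_conj 1)
    obtain ⟨u2, hu2, hu2'⟩ := hgen (lowT (-1)) (lowT_pow_p _) (lowT_conj _)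
    obtain ⟨u3, hu3, hu3'⟩ := hgen (upT (-(a : ZMod p))) (upT_pow_p _) (upT_conj _)
    obtain ⟨u4, hu4, hu4'⟩ := hgen (lowT ((a⁻¹ : (ZMod p)ˣ) : ZMod p)) (lowT_pow_p _) (lowT_conj _)
    let u : alternatingGroup α := u1 * u2 * u1 * (u3 * u4 * u3)
    have hu : (u : Perm α) = viaEmbeddingHom e (gridHom hpq (diag2 a)) := by
      simp only [diag2_eq, map_mul, ← hu1, ← hu2, ← hu3, ← hu4]
      rfl
    have huR : InAut E R u := mem_inAutSubgroup.mp
      (mul_mem (mul_mem (mul_mem hu1' hu2') hu1') (mul_mem (mul_mem hu3' hu4') hu3'))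
    have hmon : IsMon (gridHom hpq (diag2 a)) :=
      isMon_gridHom hpq _ (Units.mulLeft a) a⁻¹ 0 fun c x => by rw [add_zero]; rfl
    have hbign : gridHom hpq (diag2 a) ∈ Subgroup.normalizer (bigGroup hpq : Set (Perm (Fin q × ZMod p))) := by
      refine mem_normalizer_of_forall ?_
      suffices bigGroup hpq ≤ (bigGroup hpq).comap (MulAut.conj (gridHom hpq (diag2 a))).toMonoidHom from
        fun x hx => this hx
      refine sup_le (fun x hx => Subgroup.mem_sup_left
        ((Subgroup.mem_normalizer_iff.mp (mon_normalizes_shGroup hmon) x).mp hx)) ?_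
      rintro _ ⟨_, ⟨z, rfl⟩, rfl⟩
      refine Subgroup.mem_sup_right ⟨trans2 ((a : ZMod p) * z.1) (((a⁻¹ : (ZMod p)ˣ) : ZMod p) * z.2),
        ⟨(_, _), rfl⟩, ?_⟩
      show gridHom hpq _ = gridHom hpq (diag2 a) * gridHom hpq _ * (gridHom hpq (diag2 a))⁻¹
      rw [← map_inv, ← map_mul, ← map_mul]
      congr 1
      rw [eq_mul_inv_iff_mul_eq]
      refine Perm.ext fun ⟨i, x⟩ => ?_
      simp only [Perm.mul_apply, diag2_apply, trans2_apply, Prod.mk.injEq]
      exact ⟨by ring, by ring⟩
    have huQ := inAut_of_centric hEF hEs hRc hRQ hQS (via_normalizes e hbign hu) huR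
    exact ⟨u, hu, mem_inAutSubgroup.mpr
      (inAut_of_le hAQ hQS (via_normalizes e (mon_normalizes_shGroup hmon) hu) huQ)⟩
  -- `g` respects the translations
  have hgen : ∀ b : Fin q → ZMod p, ∃ c, (g : Perm α) * viaEmbeddingHom e (sh b) * (g : Perm α)⁻¹ =
      viaEmbeddingHom e (sh c) := by
    let K : AddSubgroup (Fin q → ZMod p) :=
      { carrier := {b | ∃ c, (g : Perm α) * viaEmbeddingHom e (sh b) * (g : Perm α)⁻¹ = viaEmbeddingHom e (sh c)}
        zero_mem' := ⟨0, by rw [sh_zero, map_one, mul_one, mul_inv_cancel]⟩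
        add_mem' := by
          rintro b b' ⟨c, hc⟩ ⟨c', hc'⟩
          refine ⟨c + c', ?_⟩
          rw [sh_add, sh_add, map_mul, map_mul, ← hc, ← hc']
          group
        neg_mem' := by
          rintro b ⟨c, hc⟩
          refine ⟨-c, ?_⟩
          rw [← sh_inv, ← sh_inv, map_inv, map_inv, ← hc]
          group }
    have hunit : ∀ i, unitVec (p := p) i ∈ K := by
      intro i
      obtain ⟨s, hs⟩ := alt_of_isPGroup e hp hsh (σ := sh (unitVec i)) ⟨_, rfl⟩
      have hsS : s ∈ (S : Subgroup (alternatingGroup α)) := hAS ⟨_, ⟨_, rfl⟩, hs.symm⟩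
      have hord : orderOf (s : Perm α) = p := by
        refine orderOf_eq_prime (by rw [hs, ← map_pow, sh_pow_p, map_one]) fun h => ?_
        have h1 := congrArg (fun f : Perm α => f (e (i, 0))) (hs.symm.trans h)
        simp only [via_apply, sh_unit_support, if_pos, Perm.one_apply, EmbeddingLike.apply_eq_iff_eq,
          Prod.mk.injEq, true_and, zero_add] at h1
        exact one_ne_zero h1
      have hct : ((g * s * g⁻¹ : alternatingGroup α) : Perm α).cycleType = {p} := by
        show ((g : Perm α) * (s : Perm α) * (g : Perm α)⁻¹).cycleType = _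
        rw [cycleType_conj]
        exact cycleType_of_order_eq hord (hs ▸ via_sh_unit_support e i)
      obtain ⟨_, ⟨c, rfl⟩, hτ⟩ := (mem_altImage e).mp (pCycle_mem e hcard S.2 hAS
        ((Subgroup.mem_normalizer_iff.mp hg s).mp hsS) hct hp)
      refine ⟨c, ?_⟩
      rw [hτ, ← hs]
      rfl
    intro b
    have hb : b = ∑ i, (b i).val • unitVec (p := p) i := by
      funext j
      rw [Finset.sum_apply, Finset.sum_eq_single j]
      · simp [unitVec]
      · intro i _ hij; simp [unitVec, Pi.single_eq_of_ne (Ne.symm hij)]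
      · intro h; exact absurd (Finset.mem_univ j) h
    show b ∈ K
    rw [hb]
    exact K.sum_mem fun i _ => K.nsmul_mem (hunit i) _
  obtain ⟨τ, hτ⟩ := exists_restrict e (range_invariant_of_commute e (g := (g : Perm α))
    (X := Set.range sh) (fun z => ⟨sh (unitVec z.1), ⟨_, rfl⟩, by
      obtain ⟨j, x⟩ := z
      rw [sh_unit_support, if_pos rfl]
      intro h
      exact one_ne_zero (add_eq_left.mp (congrArg Prod.snd h) : (1 : ZMod p) = 0)⟩)
    (by rintro _ ⟨b, rfl⟩; obtain ⟨c, hc⟩ := hgen b; exact ⟨sh c, hc⟩))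
  have hge := eq_via e hcard hτ
  have hmonτ : IsMon τ := isMon_of_normalizes fun b => by
    obtain ⟨c, hc⟩ := hgen b
    rw [hge, ← map_inv, ← map_mul, ← map_mul] at hc
    exact ⟨c, viaEmbeddingHom_injective e hc⟩
  obtain ⟨π, t, b, hπtb⟩ := hmonτ
  obtain ⟨d, hd, hd'⟩ := hdiag (∏ i, t i)⁻¹
  have hdform := gridHom_affine hpq (diag2 (∏ i, t i)⁻¹) (Units.mulLeft (∏ i, t i)⁻¹) (∏ i, t i) 0
    fun c x => by rw [add_zero, diag2_apply, inv_inv]; rfl
  have hsig : sign τ = sign (gridHom hpq (diag2 (∏ i, t i)⁻¹)) := by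
    rw [← sign_via e τ, ← hge, ← sign_via e (gridHom hpq _), ← hd, mem_alternatingGroup.mp g.2,
      mem_alternatingGroup.mp d.2]
  have hprod : ∏ i, t i = ∏ i : Fin q, (if i.val < p then ∏ i, t i else 1) := by
    have hset : (Finset.univ.filter fun i : Fin q => i.val < p) = Finset.univ.map (blockEmb hpq) := by
      ext i
      simp only [Finset.mem_filter, Finset.mem_univ, true_and, Finset.mem_map]
      exact ⟨fun hi => ⟨(i.val : ZMod p), Fin.ext (ZMod.val_natCast_of_lt hi)⟩,
        fun ⟨c, hc⟩ => hc ▸ ZMod.val_lt c⟩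
    rw [← Finset.prod_filter, hset, Finset.prod_map, Finset.prod_const, Finset.card_univ, ZMod.card,
      congrArg ((∏ i, t i) ^ ·) (Nat.sub_add_cancel (Fact.out : p.Prime).one_le).symm, pow_succ,
      ZMod.units_pow_card_sub_one_eq_one, one_mul]
  obtain ⟨m, hm, hm'⟩ := hmonP _ (mem_monP_mul hp hpq hπtb hdform hsig hprod)
  have hgA : g = m * d := Subtype.ext (by
    rw [hge]
    show _ = (m : Perm α) * (d : Perm α)
    rw [hm, hd, ← map_mul, inv_mul_cancel_right])
  have hgAA : InAut E A g := mem_inAutSubgroup.mp (hgA ▸ mul_mem hm' hd')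
  exact inAut_of_centric hEF hEs hAc hAS le_rfl hg hgAA

end Main

/-- For odd `p` the `p`-fusion system of the alternating group on at most one point more than a
multiple `q * p` of `p`, `p ≤ q`, is simple. -/
theorem alt_isSimple (hp : p ≠ 2) (hq : p ≤ q) (h1 : q * p ≤ Fintype.card α)
    (h2 : Fintype.card α ≤ q * p + 1) (S : Sylow p (alternatingGroup α)) :
    (groupFusionSystem (S : Subgroup (alternatingGroup α))).IsSimple p := by
  obtain ⟨e₀⟩ := Function.Embedding.nonempty_of_card_le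
    (show Fintype.card (Fin q × ZMod p) ≤ Fintype.card α by simpa [Fintype.card_prod] using h1)
  have hQ : IsPGroup p (altImage e₀ (bigGroup hq)) :=
    ((isPGroup_bigGroup hq).map (viaEmbeddingHom e₀)).comap_of_injective _
      (alternatingGroup α).subtype_injective
  obtain ⟨P, hP⟩ := hQ.exists_le_sylow
  obtain ⟨h, hh⟩ := MulAction.exists_smul_eq (alternatingGroup α) P S
  let e : Fin q × ZMod p ↪ α := e₀.trans (h : Perm α).toEmbedding
  have he : ∀ σ, viaEmbeddingHom e σ = (h : Perm α) * viaEmbeddingHom e₀ σ * (h : Perm α)⁻¹ := by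
    intro σ
    refine Perm.ext fun a => ?_
    obtain ⟨a, rfl⟩ := (h : Perm α).surjective a
    simp only [Perm.mul_apply, Perm.coe_inv, Equiv.symm_apply_apply]
    by_cases ha : a ∈ Set.range e₀
    · obtain ⟨z, rfl⟩ := ha
      rw [via_apply e₀, show (h : Perm α) (e₀ z) = e z from rfl, via_apply e]
      rfl
    · rw [via_apply_of_notMem e₀ σ ha, via_apply_of_notMem e σ]
      rintro ⟨z, hz⟩
      exact ha ⟨z, (h : Perm α).injective hz⟩
  have hQS : altImage e (bigGroup hq) ≤ (S : Subgroup (alternatingGroup α)) := by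
    rintro g ⟨σ, hσ, hg⟩
    rw [← hh, Sylow.coe_subgroup_smul, Subgroup.mem_pointwise_smul_iff_inv_smul_mem]
    refine hP ⟨σ, hσ, ?_⟩
    rw [he] at hg
    simp only [MulAut.smul_def, MulAut.inv_apply, MulAut.conj_symm_apply]
    show _ = (h : Perm α)⁻¹ * (g : Perm α) * (h : Perm α)
    rw [show (g : Perm α) = (h : Perm α) * viaEmbeddingHom e₀ σ * (h : Perm α)⁻¹ from hg.symm]
    group
  have hp2 : 2 * p ≤ Fintype.card α := by
    have := (Fact.out : p.Prime).two_le
    calc 2 * p ≤ q * p := Nat.mul_le_mul_right p (this.trans hq)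
      _ ≤ _ := h1
  refine group_isSimple' S ?_ (fun T hT => or_iff_not_imp_left.mpr fun hT1 => le_antisymm hT.1 fun s hs => ?_)
    fun E hEF hEs hel g hg => normalizer_inAut hq e hp h2 S hQS hEF hEs hel hg
  · intro hbot
    refine ?_
    have hq0 : 0 < q := lt_of_lt_of_le (Fact.out : p.Prime).pos hq
    obtain ⟨u, hu⟩ := exists_alt_of_pow e hp (k := 1) (σ := sh (unitVec (p := p) (⟨0, hq0⟩ : Fin q)))
      (by rw [pow_one]; exact sh_pow_p _)
    have h1 : u ∈ (S : Subgroup (alternatingGroup α)) := hQS ⟨_, Subgroup.mem_sup_left ⟨_, rfl⟩, hu.symm⟩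
    rw [hbot, Subgroup.mem_bot] at h1
    rw [h1] at hu
    have h3 := congrArg (fun f : Perm α => f (e (⟨0, hq0⟩, 0))) hu
    simp only [via_apply, sh_unit_support, if_pos, OneMemClass.coe_one, Perm.one_apply,
      EmbeddingLike.apply_eq_iff_eq, Prod.mk.injEq, true_and, zero_add] at h3
    exact zero_ne_one h3
  · obtain ⟨k, hk⟩ := S.2 ⟨s, hs⟩
    exact mem_of_inC hT hs (inC_of_odd hp hp2 hT hT1 _ k s (Nat.lt_succ_self _) (congrArg Subtype.val hk))

end CfsgLib.FusionAlt
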