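import Cfsg.Agent.Lib.FusionAlt.AltClosed

/-!
Strongly closed subgroups of the 2-fusion system of an alternating group.
-/

set_option autoImplicit false

namespace CfsgLib.FusionAlt

open Cfsg Cfsg.FusionSystem CfsgLib.Fusion CfsgLib.FusionExtend Equiv Equiv.Perm

variable {α : Type*} [Fintype α] [DecidableEq α] [Fact (Nat.Prime 2)]
variable {S : Sylow 2 (alternatingGroup α)} {T : Subgroup (alternatingGroup α)}

omit [Fact (Nat.Prime 2)] in
theorem swap_disjoint {a b c d : α} (hac : a ≠ c) (had : a ≠ d) (hbc : b ≠ c) (hbd : b ≠ d) :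
    Perm.Disjoint (Equiv.swap a b) (Equiv.swap c d) := by
  intro z
  by_cases hza : z = a
  · subst hza; exact Or.inr (swap_apply_of_ne_of_ne hac had)
  by_cases hzb : z = b
  · subst hzb; exact Or.inr (swap_apply_of_ne_of_ne hbc hbd)
  exact Or.inl (swap_apply_of_ne_of_ne hza hzb)

omit [Fact (Nat.Prime 2)] in
theorem cycleType_two_swaps {a b c d : α} (hab : a ≠ b) (hcd : c ≠ d) (hac : a ≠ c) (had : a ≠ d)
    (hbc : b ≠ c) (hbd : b ≠ d) : (Equiv.swap a b * Equiv.swap c d).cycleType = {2, 2} := by
  rw [(swap_disjoint hac had hbc hbd).cycleType_mul, (isCycle_swap hab).cycleType,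
    (isCycle_swap hcd).cycleType, card_support_swap hab, card_support_swap hcd]
  rfl

/-- The double transpositions are reached. -/
theorem inC_of_two_two (hT : (groupFusionSystem (S : Subgroup (alternatingGroup α))).StronglyClosed T)
    (hT1 : T ≠ ⊥) {u : alternatingGroup α} (hu : (u : Perm α).cycleType = {2, 2}) : InC T u := by
  have hTp : IsPGroup 2 T := S.2.to_le hT.1
  have hdvd : 2 ∣ Nat.card T := by
    obtain ⟨j, hj⟩ := IsPGroup.iff_card.mp hTp
    rw [hj]
    refine dvd_pow_self 2 ?_
    rintro rfl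
    exact hT1 (Subgroup.card_eq_one.mp hj)
  obtain ⟨⟨x, hxT⟩, hx⟩ := exists_prime_orderOf_dvd_card' 2 hdvd
  have hxo : orderOf (x : Perm α) = 2 := by
    rwa [Subgroup.orderOf_coe, ← Subgroup.orderOf_mk x hxT]
  have hxx : ∀ z, (x : Perm α) ((x : Perm α) z) = z := fun z => by
    have := pow_orderOf_eq_one (x : Perm α)
    rw [hxo, pow_two] at this
    exact congrArg (fun f : Perm α => f z) this
  obtain ⟨k, hk⟩ := cycleType_prime_order (σ := (x : Perm α)) (hxo ▸ Nat.prime_two)
  have hcard : 3 ≤ (x : Perm α).support.card := by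
    have hsum := sum_cycleType (x : Perm α)
    have hsign := mem_alternatingGroup.mp x.2
    rw [sign_of_cycleType, hk, hxo, Multiset.sum_replicate, Multiset.card_replicate, smul_eq_mul] at hsign
    rw [hk, hxo, Multiset.sum_replicate, smul_eq_mul] at hsum
    by_contra hlt
    have hk0 : k = 0 := by omega
    subst hk0
    exact absurd hsign (by decide)
  obtain ⟨a, ha⟩ := Finset.card_pos.mp (by omega : 0 < (x : Perm α).support.card)
  obtain ⟨b, hb⟩ : ∃ b, b = (x : Perm α) a := ⟨_, rfl⟩
  obtain ⟨c, hc, hcab⟩ := Finset.exists_mem_notMem_of_card_lt_card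
    (s := ({a, b} : Finset α)) (t := (x : Perm α).support)
    (lt_of_le_of_lt Finset.card_le_two (by omega))
  simp only [Finset.mem_insert, Finset.mem_singleton, not_or] at hcab
  rw [mem_support] at ha hc
  obtain ⟨d, hd⟩ : ∃ d, d = (x : Perm α) c := ⟨_, rfl⟩
  have hab : a ≠ b := hb ▸ Ne.symm ha
  have hcd : c ≠ d := hd ▸ Ne.symm hc
  have had : a ≠ d := fun e => hcab.2 (by rw [hb, e, hd, hxx])
  have hbd : b ≠ d := fun e => hcab.1 (by rw [hb, hd] at e; exact ((x : Perm α).injective e).symm)
  have hac : a ≠ c := Ne.symm hcab.1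
  have hbc : b ≠ c := Ne.symm hcab.2
  have hxb : (x : Perm α) b = a := by rw [hb, hxx]
  have hxd : (x : Perm α) d = c := by rw [hd, hxx]
  have hx2 : (x : Perm α) * x = 1 := Perm.ext hxx
  have hcab' : Equiv.swap a b * (x : Perm α) * Equiv.swap a b = x := by
    rw [mul_assoc, mul_swap_eq_swap_mul, ← hb, hxb, Equiv.swap_comm b a, ← mul_assoc, swap_mul_self, one_mul]
  let g : alternatingGroup α := ⟨Equiv.swap b c * Equiv.swap a b, mem_alternatingGroup.mpr (by
    rw [map_mul, sign_swap hbc, sign_swap hab]; rfl)⟩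
  obtain ⟨t, ht⟩ : ∃ t, t = Equiv.swap a d * Equiv.swap b c := ⟨_, rfl⟩
  have hxy : (x : Perm α) * ((g * x * g⁻¹ : alternatingGroup α) : Perm α) = t := by
    show (x : Perm α) * (Equiv.swap b c * Equiv.swap a b * x * (Equiv.swap b c * Equiv.swap a b)⁻¹) = t
    rw [mul_inv_rev, swap_inv, swap_inv]
    calc (x : Perm α) * (Equiv.swap b c * Equiv.swap a b * x * (Equiv.swap a b * Equiv.swap b c))
        = (x : Perm α) * Equiv.swap b c * (Equiv.swap a b * x * Equiv.swap a b) * Equiv.swap b c := by group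
      _ = t := by
        rw [hcab', mul_swap_eq_swap_mul (x : Perm α) b c, hxb, ← hd, mul_assoc _ (x : Perm α) (x : Perm α), hx2, mul_one, ht]
  have hdisj := swap_disjoint (a := a) (b := d) (c := b) (d := c) hab hac hbd.symm hcd.symm
  have htc : Commute t (x : Perm α) := by
    show t * (x : Perm α) = x * t
    rw [ht]
    calc Equiv.swap a d * Equiv.swap b c * (x : Perm α) = Equiv.swap b c * Equiv.swap a d * x := by
          rw [hdisj.commute.eq]
      _ = x * (Equiv.swap a d * Equiv.swap b c) := by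
          rw [← mul_assoc (x : Perm α), mul_swap_eq_swap_mul (x : Perm α) a d, ← hb, hxd,
            mul_assoc _ (x : Perm α) (Equiv.swap b c), mul_swap_eq_swap_mul (x : Perm α) b c, hxb, ← hd,
            ← mul_assoc]
  have hxC : InC T x := ⟨1, by simpa using hxT⟩
  have htA : t ∈ alternatingGroup α := hxy ▸ SetLike.coe_mem (x * (g * x * g⁻¹))
  have ht2 : t ^ 2 = 1 := by
    rw [ht, hdisj.commute.mul_pow, pow_two, pow_two, swap_mul_self, swap_mul_self, one_mul]
  let t' : alternatingGroup α := ⟨t, htA⟩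
  have hQ : IsPGroup 2 (Subgroup.zpowers x ⊔ Subgroup.zpowers t' : Subgroup (alternatingGroup α)) := by
    refine IsPGroup.to_sup_of_normal_left' ?_ ?_ ?_
    · exact IsPGroup.of_card (n := 1) (by rw [Nat.card_zpowers, ← Subgroup.orderOf_coe, hxo, pow_one])
    · refine IsPGroup.of_card (n := 1) ?_
      rw [Nat.card_zpowers, ← Subgroup.orderOf_coe, pow_one]
      refine orderOf_eq_prime ht2 fun h1 => had ?_
      have h2 : t a = (1 : Perm α) a := congrArg (fun f : Perm α => f a) h1
      rw [ht, Perm.mul_apply, swap_apply_of_ne_of_ne hab hac, swap_apply_left] at h2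
      exact h2.symm
    · refine (Subgroup.zpowers_le.mpr ?_).trans (Subgroup.centralizer_le_normalizer _)
      rintro _ ⟨i, rfl⟩
      have hc : Commute x t' := Subtype.ext htc.eq.symm
      exact (hc.zpow_left i).eq
  have ht' : x * (g * x * g⁻¹) = t' := Subtype.ext hxy
  have hy : g * x * g⁻¹ = x * t' := by
    rw [← ht', ← mul_assoc x x, show x * x = 1 from Subtype.ext hx2, one_mul]
  have htC : InC T t' := by
    rw [← ht']
    refine hxC.mul hT (hxC.conj g) _ hQ (Subgroup.mem_sup_left (Subgroup.mem_zpowers x)) ?_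
    rw [hy]
    exact Subgroup.mul_mem _ (Subgroup.mem_sup_left (Subgroup.mem_zpowers x))
      (Subgroup.mem_sup_right (Subgroup.mem_zpowers t'))
  have htt : IsConj (t' : Perm α) u := isConj_iff_cycleType_eq.mpr (by
    rw [hu]; show t.cycleType = _; rw [ht, cycleType_two_swaps had hbc hab hac hbd.symm hcd.symm])
  obtain ⟨g', hg'⟩ := exists_alt_conj htt ⟨Equiv.swap a d, by
    show Commute (Equiv.swap a d) t
    rw [ht]; exact (Commute.refl _).mul_right hdisj.commute, sign_swap had⟩
  exact hg' ▸ htC.conj g'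

/-- A nontrivial strongly closed subgroup of the 2-fusion system of an alternating group reaches
every 2-element. -/
theorem inC_of_two (hT : (groupFusionSystem (S : Subgroup (alternatingGroup α))).StronglyClosed T)
    (hT1 : T ≠ ⊥) :
    ∀ (N k : ℕ) (s : alternatingGroup α), (orbitPairs (s : Perm α)).card < N → s ^ 2 ^ k = 1 →
      InC T s := by
  intro N
  induction N with
  | zero => intro k s h; omega
  | succ N ih =>
    intro k s hN hs
    by_cases hs1 : (s : Perm α) = 1
    · rw [show s = 1 from Subtype.ext hs1]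
      exact ⟨1, by simp⟩
    have hs' : (s : Perm α) ^ 2 ^ k = 1 := congrArg Subtype.val hs
    obtain ⟨x, hx⟩ : ∃ x, (s : Perm α) x ≠ x := by
      by_contra hcon
      push Not at hcon
      exact hs1 (Perm.ext hcon)
    obtain ⟨y, hy, hxy⟩ : ∃ y, (s : Perm α) y ≠ y ∧ ¬ (s : Perm α).SameCycle x y := by
      by_contra hcon
      push Not at hcon
      have hcyc : (s : Perm α).IsCycle := ⟨x, hx, fun y hy => hcon y hy⟩
      have hsign := mem_alternatingGroup.mp s.2
      obtain ⟨j, -, hj⟩ := (Nat.dvd_prime_pow Nat.prime_two).mp (orderOf_dvd_of_pow_eq_one hs')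
      rw [hcyc.orderOf] at hj
      rw [hcyc.sign, hj] at hsign
      rcases Nat.eq_zero_or_pos j with rfl | hj0
      · exact hcyc.ne_one ((card_support_le_one).mp (by rw [hj]; rfl))
      · rw [(Even.pow_of_ne_zero even_two hj0.ne').neg_one_pow] at hsign
        exact absurd hsign (by decide)
    obtain ⟨h, hh, hhe, Q, hQ, hsQ, hEQ⟩ := exists_companion Nat.prime_two hs'
    have hsh : ∀ a b, h.SameCycle a b → (s : Perm α).SameCycle a b := by
      intro a b hab
      obtain ⟨i, -, -, rfl⟩ := hab.exists_pow_eq''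
      clear hab
      induction i with
      | zero => exact SameCycle.refl _ a
      | succ i ih =>
        rw [pow_succ', Perm.mul_apply, hhe, ← Perm.coe_pow]
        exact ih.trans (sameCycle_pow_right.mpr (SameCycle.refl _ _))
    have hmove : ∀ z, (s : Perm α) z ≠ z → h z ≠ z := by
      intro z hz e
      have hper : Function.IsPeriodicPt (s : Perm α) (2 ^ k) z := by
        show (⇑(s : Perm α))^[2 ^ k] z = z
        rw [← Perm.coe_pow, hs']; rfl
      have hpos := Function.minimalPeriod_pos_of_mem_periodicPts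
        (Function.mk_mem_periodicPts (pow_pos two_pos k) hper)
      obtain ⟨j, -, hj⟩ := (Nat.dvd_prime_pow Nat.prime_two).mp hper.minimalPeriod_dvd
      rw [hhe] at e
      have h1 := (Function.iterate_eq_iterate_iff_of_lt_minimalPeriod
        (Nat.div_lt_self hpos one_lt_two) hpos).mp (e.trans (Function.iterate_zero_apply _ z).symm)
      rcases Nat.eq_zero_or_pos j with rfl | hj0
      · rw [pow_zero, Function.minimalPeriod_eq_one_iff_isFixedPt] at hj
        exact hz hj
      · obtain ⟨j', rfl⟩ := Nat.exists_eq_add_of_le' hj0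
        rw [hj, pow_succ, Nat.mul_div_cancel _ two_pos] at h1
        exact (pow_ne_zero j' two_ne_zero) h1
    obtain ⟨hcx, hox⟩ := cycleOf_pow_card_cycle hh (hmove x hx)
    obtain ⟨hcy, hoy⟩ := cycleOf_pow_card_cycle hh (hmove y hy)
    have hnxy : ¬ h.SameCycle x y := fun e => hxy (hsh _ _ e)
    have hdis : Perm.Disjoint (h.cycleOf x) (h.cycleOf y) := fun z => by
      by_cases hz : h.SameCycle x z
      · exact Or.inr (cycleOf_apply_of_not_sameCycle fun e => hnxy (hz.trans e.symm))
      · exact Or.inl (cycleOf_apply_of_not_sameCycle hz)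
    set u := h.cycleOf x * h.cycleOf y with hu
    have hut : u.cycleType = {2, 2} := by
      rw [hdis.cycleType_mul, hcx.cycleType, hcy.cycleType, ← hcx.orderOf, ← hcy.orderOf, hox, hoy]
      rfl
    have huA : u ∈ alternatingGroup α := by
      rw [mem_alternatingGroup, sign_of_cycleType, hut]; rfl
    have huQ : u ∈ Q :=
      Q.mul_mem (hEQ _ (cycleOf_spec h x).1 (cycleOf_spec h x).2) (hEQ _ (cycleOf_spec h y).1 (cycleOf_spec h y).2)
    have huC : InC T (⟨u, huA⟩ : alternatingGroup α) := inC_of_two_two hT hT1 hut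
    obtain ⟨j, hj⟩ := hQ ⟨_, Q.mul_mem hsQ (Q.inv_mem huQ)⟩
    have hlt := orbitPairs_lt Nat.prime_two hs' hh hhe
      (u := u) (fun a => ((cycleOf_spec h y).2 a).trans ((cycleOf_spec h x).2 _)) hx fun a ha => by
        rw [hu, Perm.mul_apply, cycleOf_apply_of_not_sameCycle fun e => hxy (ha.trans (hsh _ _ e).symm)]
    have hrest : InC T (s * ⟨u, huA⟩⁻¹) :=
      ih j _ (lt_of_lt_of_le hlt (Nat.lt_succ_iff.mp hN)) (Subtype.ext (by simpa using congrArg Subtype.val hj))
    have := hrest.mul hT huC (Q.comap (alternatingGroup α).subtype)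
      (hQ.comap_of_injective _ (alternatingGroup α).subtype_injective)
      (show (s : Perm α) * u⁻¹ ∈ Q from Q.mul_mem hsQ (Q.inv_mem huQ)) huQ
    rwa [inv_mul_cancel_right] at this

end CfsgLib.FusionAlt
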